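import Cfsg.Agent.Lib.FS.Defs

/-!
# Good subsets: closed subsets `Y` of `D` with `Qs Y` an `r`-group
-/

set_option autoImplicit false
set_option linter.unusedSectionVars false

namespace Cfsg.Lib.FS

open Subgroup Cfsg.Lib.BG
open scoped Cfsg.Lib.Transfer commutatorElement

variable {G : Type*} [Group G]

/-- A good set. -/
structure Gd (p r : ℕ) (D Y : Set G) : Prop extends Cl D Y where
  hy : Hy p r D
  pg : IsPGroup r (Qs Y)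

variable {p r : ℕ} {D X Y Z : Set G} {x y z g a b c k u w t : G}

theorem cm_def (a b : G) : ⁅a, b⁆ = a * b * a⁻¹ * b⁻¹ := rfl

theorem cm_conj (t a b : G) : t * ⁅a, b⁆ * t⁻¹ = ⁅t * a * t⁻¹, t * b * t⁻¹⁆ := by
  simp only [cm_def]; group

theorem cm_one_iff : ⁅a, b⁆ = 1 ↔ a * b = b * a := commutatorElement_eq_one_iff_mul_comm

theorem cm_inv (a b : G) : ⁅a, b⁆⁻¹ = ⁅b, a⁆ := commutatorElement_inv a b

theorem eq_one_of_sq_of_odd {n : ℕ} (hn : Odd n) (h1 : a ^ n = 1) (h2 : a * a = 1) : a = 1 := by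
  obtain ⟨m, rfl⟩ := hn
  rw [pow_succ, pow_mul, pow_two, h2] at h1
  simpa using h1

theorem Cl.Q_le'' [Finite G] (h : Cl D Y) {H : Subgroup G} (x : G) (hH : ∀ y ∈ Y, y * x⁻¹ ∈ H) : Qs Y ≤ H :=
  Qs_le fun a ha b hb => by
    have := H.mul_mem (hH _ (nz_conj' (h.nz ha) hb)) (H.inv_mem (hH a ha))
    rwa [show a⁻¹ * b * a * x⁻¹ * (a * x⁻¹)⁻¹ = a⁻¹ * b by group] at this

theorem Hy0.cl_cent (h : Hy0 p r D) (u : G) : Cl D (D ∩ 𝐂[u]) := h.cl_sub _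

namespace Gd

variable [Finite G] (h : Gd p r D Y)
include h

theorem mono (hZ : Cl D Z) (hs : Z ⊆ Y) : Gd p r D Z := ⟨hZ, h.hy, pgroup_of_le h.pg (Qs_mono hs)⟩

theorem inter' (hZ : Cl D Z) : Gd p r D (Y ∩ Z) := h.mono (h.toCl.inter hZ) Set.inter_subset_left

theorem cj' (g : G) : Gd p r D (cj g Y) := ⟨h.hy.cl_cj h.toCl g, h.hy, by rw [Qs_cj]; exact (pgroup_conj g).2 h.pg⟩

theorem tr (hy : y ∈ Y) (hz : z ∈ Y) : ∃ g ∈ Qs Y, g * y * g⁻¹ = z :=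
  h.hy.exists_conj h.pg (h.sub hy) (h.sub hz) (nz_le_nQ (h.nz hy)) (mem_Qs hy hz)

theorem act (hg : g ∈ Qs Y) (hy : y ∈ Y) : g * y * g⁻¹ ∈ Y := nz_conj (h.Q_nz hg) hy

theorem act' (hg : g ∈ Qs Y) (hy : y ∈ Y) : g⁻¹ * y * g ∈ Y := nz_conj' (h.Q_nz hg) hy

theorem cm (ha : a ∈ Qs Y) (hb : b ∈ Qs Y) : ⁅a, b⁆ ∈ Ws Y :=
  ⟨(Qs Y).mul_mem ((Qs Y).mul_mem ((Qs Y).mul_mem ha hb) (inv_mem ha)) (inv_mem hb),
    h.hy.cl2 Y h.toCl h.pg a ha b hb⟩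

theorem sq (hr : r = 2) (ha : a ∈ Qs Y) : a * a ∈ Ws Y := ⟨mul_mem ha ha, h.hy.sq hr Y h.toCl h.pg a ha⟩

theorem QC (hu : u ∈ Qs Y) (hy : y ∈ Y) (hc : u * y = y * u) : u ∈ Ws Y := by
  refine ⟨hu, mem_cz.2 fun z hz => ?_⟩
  obtain ⟨g, hg, rfl⟩ := h.tr hy hz
  have := cz_conj (h.cm hu hg).2 hz
  rw [cm_def] at this
  calc g * y * g⁻¹ * u = u * g * u⁻¹ * g⁻¹ * (g * y * g⁻¹) * (u * g * u⁻¹ * g⁻¹)⁻¹ * u := by rw [this]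
    _ = u * g * (u⁻¹ * (y * u)) * g⁻¹ := by group
    _ = _ := by rw [← hc]; group

/-- Two elements of `Q` moving a point in the same way differ by an element of `W`. -/
theorem eqv (ha : a ∈ Qs Y) (hb : b ∈ Qs Y) (hy : y ∈ Y) (e : a * y * a⁻¹ = b * y * b⁻¹) :
    ∃ w ∈ Ws Y, b = a * w := by
  refine ⟨a⁻¹ * b, h.QC (mul_mem (inv_mem ha) hb) hy ?_, by group⟩
  calc a⁻¹ * b * y = a⁻¹ * (b * y * b⁻¹) * b := by group
    _ = _ := by rw [← e]; group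

theorem W_act (hw : w ∈ Ws Y) (hy : y ∈ Y) : w * y * w⁻¹ = y := cz_conj hw.2 hy

theorem mul_W_act (hw : w ∈ Ws Y) (hy : y ∈ Y) (a : G) : a * w * y * (a * w)⁻¹ = a * y * a⁻¹ := by
  rw [← h.W_act hw hy]; simp only [h.W_act hw hy, mul_inv_rev, ← mul_assoc]
  rw [mul_assoc a w y, ← W_pt hw hy]; group

theorem eq_of_W (hy : y ∈ Y) (hz : z ∈ Y) (hw : y * z⁻¹ ∈ Ws Y) : y = z := by
  refine h.hy.eq_of_comm' (h.sub hy) (h.sub hz) ?_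
  have := W_pt hw hz
  calc y * z = (y * z⁻¹ * z) * z := by group
    _ = _ := by rw [← this]; group

theorem latin (hx : x ∈ Y) (hy : y ∈ Y) (hz : z ∈ Y) (e : y * x * y⁻¹ = z * x * z⁻¹) : y = z := by
  refine h.hy.eq_of_comm' (h.sub hy) (h.sub hz) ?_
  have hw : y⁻¹ * z ∈ Ws Y := h.QC (mem_Qs hy hz) hx (by
    calc y⁻¹ * z * x = y⁻¹ * (z * x * z⁻¹) * z := by group
      _ = _ := by rw [← e]; group)
  have := W_pt hw hy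
  calc y * z = y * (y * (y⁻¹ * z)) := by group
    _ = _ := by rw [this]; group

theorem latin_surj (hx : x ∈ Y) (hz : z ∈ Y) : ∃ y ∈ Y, y * x * y⁻¹ = z := by
  have hm : Set.MapsTo (fun y => y * x * y⁻¹) Y Y := fun y hy => h.cl y hy x hx
  have := ((Set.toFinite Y).injOn_iff_bijOn_of_mapsTo hm).1 (fun y hy z hz e => h.latin hx hy hz e)
  exact this.surjOn hz

/-- Every element of `Q` is `[l, x] w`. -/
theorem L3 (hx : x ∈ Y) (hg : g ∈ Qs Y) : ∃ l ∈ Qs Y, ∃ w ∈ Ws Y, g = ⁅l, x⁆ * w := by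
  obtain ⟨y, hy, e⟩ := h.latin_surj hx (h.act hg hx)
  obtain ⟨l, hl, rfl⟩ := h.tr hx hy
  obtain ⟨w, hw, e'⟩ := h.eqv (h.mul_inv_mem hy hx) hg hx (by rw [← e]; group)
  exact ⟨l, hl, w, hw, e'⟩

theorem x_conj (hx : x ∈ Y) (hg : g ∈ Qs Y) : x * g * x⁻¹ ∈ Qs Y := Q_conj (h.nz hx) hg

theorem cm_pt (hx : x ∈ Y) (hg : g ∈ Qs Y) : ⁅g, x⁆ ∈ Qs Y := by
  have := mul_mem hg (h.x_conj hx (inv_mem hg))
  rwa [show g * (x * g⁻¹ * x⁻¹) = ⁅g, x⁆ by rw [cm_def]; group] at this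

theorem cm_nz (hx : x ∈ Y) (hg : g ∈ normalizer Y) : ⁅g, x⁆ ∈ Qs Y := h.mul_inv_mem (nz_conj hg hx) hx

theorem W_le_der (hx : x ∈ Y) : Ws Y ≤ ⁅Qs Y, Qs Y⁆ := by
  let H : Subgroup G :=
    { carrier := {g | ∃ l ∈ Qs Y, ∃ c ∈ ⁅Qs Y, Qs Y⁆, g = ⁅l, x⁆ * c}
      one_mem' := ⟨1, one_mem _, 1, one_mem _, by simp⟩
      mul_mem' := by
        rintro _ _ ⟨l₁, h₁, c₁, hc₁, rfl⟩ ⟨l₂, h₂, c₂, hc₂, rfl⟩
        refine ⟨l₁ * l₂, mul_mem h₁ h₂, _, mul_mem (mul_mem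
          (comm_mem_comm (h.x_conj hx h₁) (inv_mem (h.cm_pt hx h₂)))
          (conj_mem_of_norm' (left_norm_comm _ _ (h.cm_pt hx h₂)) hc₁)) hc₂, ?_⟩
        simp only [cm_def]; group
      inv_mem' := by
        rintro _ ⟨l, hl, c, hc, rfl⟩
        refine ⟨l⁻¹, inv_mem hl, _, mul_mem (comm_mem_comm (inv_mem (h.x_conj hx hl)) hl)
          (conj_mem_of_norm (left_norm_comm _ _ (h.cm_pt hx hl)) (inv_mem hc)), ?_⟩
        simp only [cm_def]; group }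
  have hH : Qs Y ≤ H := h.toCl.Q_le'' x fun y hy => by
    obtain ⟨l, hl, rfl⟩ := h.tr hx hy
    exact ⟨l, hl, 1, one_mem _, by rw [cm_def]; group⟩
  intro w hw
  obtain ⟨l, hl, c, hc, e⟩ := hH hw.1
  have hcW : c ∈ Ws Y := (comm_le_iff.2 fun a ha b hb => h.cm ha hb) hc
  have : l * x * l⁻¹ = x := h.eq_of_W (h.act hl hx) hx (by
    rw [show l * x * l⁻¹ * x⁻¹ = w * c⁻¹ by rw [e, cm_def]; group]; exact mul_mem hw (inv_mem hcW))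
  rwa [e, cm_def, this, mul_inv_cancel, one_mul]

theorem cm_mul_left (ha : a ∈ Qs Y) (hb : b ∈ Qs Y) (hc : c ∈ Qs Y) : ⁅a * b, c⁆ = ⁅a, c⁆ * ⁅b, c⁆ := by
  have e := W_Q (h.cm hb hc) ha
  rw [W_Q (h.cm hb hc) (h.cm ha hc).1]
  calc ⁅a * b, c⁆ = a * ⁅b, c⁆ * a⁻¹ * ⁅a, c⁆ := by simp only [cm_def]; group
    _ = _ := by rw [e]; group

theorem cm_mul_right (ha : a ∈ Qs Y) (hb : b ∈ Qs Y) (hc : c ∈ Qs Y) : ⁅a, b * c⁆ = ⁅a, b⁆ * ⁅a, c⁆ := by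
  have e := W_Q (h.cm ha hc) hb
  calc ⁅a, b * c⁆ = ⁅a, b⁆ * (b * ⁅a, c⁆) * b⁻¹ := by simp only [cm_def]; group
    _ = _ := by rw [e]; group

theorem cm_W_left (hw : w ∈ Ws Y) (ha : a ∈ Qs Y) : ⁅w, a⁆ = 1 := cm_one_iff.2 (W_Q hw ha).symm

theorem cm_W_right (hw : w ∈ Ws Y) (ha : a ∈ Qs Y) : ⁅a, w⁆ = 1 := cm_one_iff.2 (W_Q hw ha)

theorem cm_mul_W_left (ha : a ∈ Qs Y) (hw : w ∈ Ws Y) (hc : c ∈ Qs Y) : ⁅a * w, c⁆ = ⁅a, c⁆ := by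
  rw [h.cm_mul_left ha hw.1 hc, h.cm_W_left hw hc, mul_one]

theorem cm_mul_W_right (ha : a ∈ Qs Y) (hw : w ∈ Ws Y) (hc : c ∈ Qs Y) : ⁅c, a * w⁆ = ⁅c, a⁆ := by
  rw [h.cm_mul_right hc ha hw.1, h.cm_W_right hw hc, mul_one]

theorem cm_inv_left (ha : a ∈ Qs Y) (hc : c ∈ Qs Y) : ⁅a⁻¹, c⁆ = ⁅a, c⁆⁻¹ := by
  rw [eq_inv_iff_mul_eq_one, ← h.cm_mul_left (inv_mem ha) ha hc]; simp

theorem cm_inv_right (ha : a ∈ Qs Y) (hc : c ∈ Qs Y) : ⁅c, a⁻¹⁆ = ⁅c, a⁆⁻¹ := by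
  rw [eq_inv_iff_mul_eq_one, ← h.cm_mul_right hc (inv_mem ha) ha]; simp

/-- An element centralizing `W` preserves the commutator form. -/
theorem cm_act (ht : t ∈ 𝐂(Ws Y)) (ha : a ∈ Qs Y) (hb : b ∈ Qs Y) :
    ⁅t * a * t⁻¹, t * b * t⁻¹⁆ = ⁅a, b⁆ := by
  rw [← cm_conj, ← mem_cent.1 ht _ (h.cm ha hb)]; group

theorem pt_cW (hx : x ∈ Y) : x ∈ 𝐂(Ws Y) := mem_cent.2 fun _ hw => (W_pt hw hx).symm

theorem Q_cW (ha : a ∈ Qs Y) : a ∈ 𝐂(Ws Y) := mem_cent.2 fun _ hw => (W_Q hw ha).symm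

theorem W_sq (hr : r = 2) (hx : x ∈ Y) (hw : w ∈ Ws Y) : w * w = 1 := by
  let H : Subgroup G :=
    { carrier := {w | w ∈ Ws Y ∧ w * w = 1}
      one_mem' := ⟨one_mem _, by simp⟩
      mul_mem' := fun {a b} ha hb => ⟨mul_mem ha.1 hb.1, by
        calc a * b * (a * b) = a * (b * a) * b := by group
          _ = (a * a) * (b * b) := by rw [W_Q ha.1 hb.1.1]; group
          _ = 1 := by rw [ha.2, hb.2, one_mul]⟩
      inv_mem' := fun {a} ha => ⟨inv_mem ha.1, by rw [← mul_inv_rev, ha.2, inv_one]⟩ }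
  have : ⁅Qs Y, Qs Y⁆ ≤ H := comm_le_iff.2 fun a ha b hb => ⟨h.cm ha hb, by
    change ⁅a, b⁆ * ⁅a, b⁆ = 1
    rw [← h.cm_mul_left ha ha hb, h.cm_W_left (h.sq hr ha) hb]⟩
  exact (this (h.W_le_der hx hw)).2

/-- For `r = 2`: the square of `[l, x] w` is its commutator with `l`. -/
theorem sq_eq (hr : r = 2) (hx : x ∈ Y) {l : G} (hl : l ∈ Qs Y) (hw : w ∈ Ws Y) (e : g = ⁅l, x⁆ * w) :
    g * g = ⁅l, g⁆ := by
  have hs := h.x_conj hx hl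
  set s := x * l * x⁻¹ with hsd
  have e1 : ⁅l, x⁆ = l * s⁻¹ := by rw [hsd, cm_def]; group
  have e2 : s * s = l * l := by
    rw [hsd, show x * l * x⁻¹ * (x * l * x⁻¹) = x * (l * l) * x⁻¹ by group, W_pt (h.sq hr hl) hx]; group
  rw [e, e1, h.cm_mul_W_right (mul_mem hl (inv_mem hs)) hw hl, h.cm_mul_right hl hl (inv_mem hs)]
  have e3 := W_Q hw (mul_mem hl (inv_mem hs))
  calc l * s⁻¹ * w * (l * s⁻¹ * w) = l * s⁻¹ * (l * s⁻¹) * (w * w) := by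
        rw [mul_assoc (l * s⁻¹) w, ← mul_assoc w, ← e3]; group
    _ = ⁅l, s⁻¹⁆ * s⁻¹ * (s * s) * s⁻¹ := by rw [h.W_sq hr hx hw, e2, cm_def]; group
    _ = _ := by simp only [cm_def]; group

/-- An element of `Q` is fixed by `u` as soon as the point it moves `x` to is, if `u` centralizes `x` and `W`. -/
theorem cent_of_fix (hx : x ∈ Y) (hg : g ∈ Qs Y) (hux : u * x = x * u) (huW : u ∈ 𝐂(Ws Y))
    (hf : u * (g * x * g⁻¹) = g * x * g⁻¹ * u) : u * g = g * u := by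
  have hF := h.inter' (h.hy.cl_cent u)
  have h1 : x ∈ Y ∩ (D ∩ 𝐂[u]) := ⟨hx, h.sub hx, mem_cent1.2 hux.symm⟩
  obtain ⟨k, hk, e⟩ := hF.tr h1 ⟨h.act hg hx, h.sub (h.act hg hx), mem_cent1.2 hf.symm⟩
  obtain ⟨w, hw, rfl⟩ := h.eqv (Qs_mono Set.inter_subset_left hk) hg hx e
  have : k * u = u * k := mem_cent1.1 (Qs_le_of_subset (fun _ hy => hy.2.2) hk)
  rw [← mul_assoc, ← this, mul_assoc, ← mem_cent.1 huW w hw, mul_assoc]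

/-- Decomposition of an element of the normalizer. -/
theorem nz_dec (hx : x ∈ Y) (ht : t ∈ normalizer Y) : ∃ g ∈ Qs Y, ∃ u ∈ normalizer Y, u * x = x * u ∧ t = g * u := by
  obtain ⟨g, hg, e⟩ := h.tr hx (nz_conj ht hx)
  refine ⟨g, hg, g⁻¹ * t, mul_mem (inv_mem (h.Q_nz hg)) ht, ?_, by group⟩
  calc g⁻¹ * t * x = g⁻¹ * (t * x * t⁻¹) * t := by group
    _ = _ := by rw [← e]; group

theorem pow_one (hg : g ∈ Qs Y) : ∃ n : ℕ, g ^ r ^ n = 1 := by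
  obtain ⟨n, hn⟩ := h.pg ⟨g, hg⟩
  exact ⟨n, by simpa using congrArg Subtype.val hn⟩

theorem odd_sq (hr : r ≠ 2) (hg : g ∈ Qs Y) (e : g * g = 1) : g = 1 := by
  obtain ⟨n, hn⟩ := h.pow_one hg
  exact eq_one_of_sq_of_odd ((h.hy.rp.odd_of_ne_two hr).pow) hn e

theorem odd_sq_W (hr : r ≠ 2) (hg : g ∈ Qs Y) (e : g * g ∈ Ws Y) : g ∈ Ws Y := by
  obtain ⟨n, hn⟩ := h.pow_one hg
  obtain ⟨m, hm⟩ : Odd (r ^ n) := (h.hy.rp.odd_of_ne_two hr).pow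
  rw [hm, pow_succ, pow_mul, pow_two] at hn
  rw [eq_inv_of_mul_eq_one_right hn]
  exact inv_mem (pow_mem e m)

end Gd

end Cfsg.Lib.FS
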