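import Cfsg.Agent.Lib.FS.Plane

/-!
# The group `W` of a plane acts semiregularly on the other planes through a point
-/

set_option autoImplicit false
set_option linter.unusedSectionVars false

namespace Cfsg.Lib.FS

open Subgroup Cfsg.Lib.BG
open scoped Cfsg.Lib.Transfer commutatorElement

variable {G : Type*} [Group G] [Finite G]
variable {p r : ℕ} {D X Y Z X₁ X₂ : Set G} {x y z g a b c k u w t : G} {R S E M : Subgroup G}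

theorem mem_norm_of_conj_le (h : g ⋆ E ≤ E) : g ∈ 𝐍(E) := mem_nz (Transfer.conj_le_iff.1 h)

theorem cz_anti (h : Y ⊆ Z) : centralizer Z ≤ centralizer Y := centralizer_le h

namespace Mn

variable (h : Mn p r D)
include h

theorem QI_comm (h1 : Pl p r D X₁) (h2 : Pl p r D X₂) (hne : X₁ ≠ X₂)
    (ha : a ∈ Qs (X₁ ∩ X₂)) (hb : b ∈ Qs (X₁ ∩ X₂)) : ⁅a, b⁆ = 1 :=
  h.W_disj h1 h2 hne (h1.cm (Qs_mono Set.inter_subset_left ha) (Qs_mono Set.inter_subset_left hb))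
    (h2.cm (Qs_mono Set.inter_subset_right ha) (Qs_mono Set.inter_subset_right hb))

theorem exists_norm_pt (h1 : Pl p r D X₁) (h2 : Pl p r D X₂) (hne : X₁ ≠ X₂) (hx1 : x ∈ X₁) (hx2 : x ∈ X₂)
    (hA : Ws X₂ ⊓ normalizer X₁ ≠ ⊥) :
    ∃ y ∈ X₁, y ∉ X₂ ∧ y ∈ 𝐍(Qs (X₁ ∩ X₂) ⊔ (Ws X₁ ⊓ normalizer X₂) ⊔ (Ws X₂ ⊓ normalizer X₁)) := by
  haveI := Fact.mk h.rp
  have hI := h1.inter' h2.toCl
  have hxI : x ∈ X₁ ∩ X₂ := ⟨hx1, hx2⟩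
  have q1 : Qs (X₁ ∩ X₂) ≤ Qs X₁ := Qs_mono Set.inter_subset_left
  have q2 : Qs (X₁ ∩ X₂) ≤ Qs X₂ := Qs_mono Set.inter_subset_right
  set A₂ := Ws X₂ ⊓ normalizer X₁ with hA₂
  have hP := h1.pg_sup (pgroup_of_le h2.pg (inf_le_left.trans W_le_Q)) (inf_le_right : A₂ ≤ _)
  have hAH : A₂ ≤ (Qs X₁ ⊔ A₂) ⊓ normalizer (X₁ ∩ X₂) :=
    le_inf le_sup_right fun a ha => nz_inter ha.2 (W_le_nz ha.1)
  have hlt : (Qs X₁ ⊔ A₂) ⊓ normalizer (X₁ ∩ X₂) < Qs X₁ ⊔ A₂ := by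
    refine lt_of_le_of_ne inf_le_left fun e => hne (h1.eq_of_sub h2.toGd fun y hy => ?_)
    obtain ⟨k, hk, rfl⟩ := h1.tr hx1 hy
    exact (nz_conj ((le_sup_left.trans e.ge) hk).2 hxI).2
  obtain ⟨g', ⟨hg', hgn⟩, hgH⟩ := SetLike.exists_of_lt (nil_norm_grow (pgroup_nil hP) hlt)
  obtain ⟨g, hg, a', ha', rfl⟩ := (mem_sup_left_norm (inf_le_right.trans nz_le_nQ)).1 hg'
  replace hgn := (Subgroup.mul_mem_cancel_right _ (le_norm _ (hAH ha'))).1 hgn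
  replace hgH := fun e => hgH (mul_mem e (hAH ha'))
  have hy : g⁻¹ * x * g ∈ X₁ := h1.act' hg hx1
  set y := g⁻¹ * x * g with hyd
  have hact : ∀ a ∈ A₂, ∃ i ∈ Qs (X₁ ∩ X₂), a * y * a⁻¹ = i * y * i⁻¹ := fun a ha => by
    have m1 := mul_mem (hAH ha) (inv_mem (conj_mem_of_norm' hgn (hAH ha)))
    have m2 : a * (g⁻¹ * a * g)⁻¹ ∈ Qs X₁ := by
      have := mul_mem (Q_conj ha.2 (inv_mem hg)) hg
      rwa [show a * g⁻¹ * a⁻¹ * g = a * (g⁻¹ * a * g)⁻¹ by group] at this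
    obtain ⟨i, hi, e⟩ := hI.tr hxI (nz_conj m1.2 hxI)
    obtain ⟨w, hw, e'⟩ := h1.eqv (q1 hi) m2 hx1 e
    refine ⟨i, hi, ?_⟩
    rw [← h1.mul_W_act hw hy i, ← e', hyd]
    calc a * (g⁻¹ * x * g) * a⁻¹ = a * g⁻¹ * a⁻¹ * (a * x * a⁻¹) * a * g * a⁻¹ := by group
      _ = _ := by rw [cz_conj ha.1.2 hx2]; group
  have hq : y * x⁻¹ ∈ Qs X₁ := h1.mul_inv_mem hy hx1
  have hc : ∀ k ∈ Qs (X₁ ∩ X₂), ⁅y * x⁻¹, k⁆ ∈ Ws X₁ ⊓ normalizer X₂ := fun k hk => by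
    obtain ⟨a, ha, ha1⟩ := exists_ne_one hA
    refine ⟨h1.cm hq (q1 hk), h.nz_of_comm h2 ha.1 ha1 ?_⟩
    obtain ⟨i, hi, e⟩ := hact a ha
    have hi' := hI.x_conj hxI (inv_mem hi)
    have := cm_conj a (y * x⁻¹) k
    rw [show a * (y * x⁻¹) * a⁻¹ = a * y * a⁻¹ * (a * x * a⁻¹)⁻¹ by group, e, cz_conj ha.1.2 hx2,
      show i * y * i⁻¹ * x⁻¹ = i * (y * x⁻¹) * (x * i⁻¹ * x⁻¹) by group, ← W_Q ha.1 (q2 hk), mul_inv_cancel_right,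
      h1.cm_mul_left (mul_mem (q1 hi) hq) (q1 hi') (q1 hk), h1.cm_mul_left (q1 hi) hq (q1 hk),
      h.QI_comm h1 h2 hne hi hk, h.QI_comm h1 h2 hne hi' hk, one_mul, mul_one] at this
    exact (mul_inv_eq_iff_eq_mul.1 this).symm
  have hQ : ∀ k ∈ Qs (X₁ ∩ X₂), y * k * y⁻¹ ∈ Qs (X₁ ∩ X₂) ⊔ (Ws X₁ ⊓ normalizer X₂) ⊔ A₂ := fun k hk => by
    have hk' := hI.x_conj hxI hk
    have := mul_mem (mem_sup_right (S := Qs (X₁ ∩ X₂)) (hc _ hk')) (mem_sup_left hk')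
    rw [show ⁅y * x⁻¹, x * k * x⁻¹⁆ * (x * k * x⁻¹) = y * k * y⁻¹ by rw [cm_def]; group] at this
    exact mem_sup_left this
  refine ⟨y, hy, fun hy2 => hgH ⟨mem_sup_left hg, ?_⟩, mem_norm_of_conj_le ?_⟩
  · obtain ⟨k, hk, e⟩ := hI.tr hxI ⟨hy, hy2⟩
    obtain ⟨w, hw, e'⟩ := h1.eqv (q1 hk) (inv_mem hg) hx1 (by rw [e, inv_inv])
    refine (normalizer (X₁ ∩ X₂)).inv_mem_iff.1 ?_
    rw [e']
    exact mul_mem (hI.Q_nz hk) (cz_le_nz (cz_anti Set.inter_subset_left hw.2))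
  · rw [Transfer.conj_sup, Transfer.conj_sup]
    refine sup_le (sup_le (Transfer.conj_le_iff.2 hQ) (Transfer.conj_le_iff.2 fun a ha => ?_))
      (Transfer.conj_le_iff.2 fun a ha => ?_)
    · rw [W_pt ha.1 hy, mul_inv_cancel_right]; exact mem_sup_left (mem_sup_right ha)
    · obtain ⟨i, hi, e⟩ := hact a ha
      have := mul_mem (mul_mem (hQ i hi) (mem_sup_left (mem_sup_left (inv_mem hi)))) (mem_sup_right ha)
      rwa [show y * i * y⁻¹ * i⁻¹ * a = y * (i * y * i⁻¹)⁻¹ * a by group, ← e,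
        show y * (a * y * a⁻¹)⁻¹ * a = y * a * y⁻¹ by group] at this

theorem claim_aux (hx : x ∈ D) : ∀ J R₁ R₂ : Subgroup G, Mx r x R₁ → Mx r x R₂ → Ws (Yr D x R₁) ⊓ R₂ ≠ ⊥ →
    R₁ ⊓ R₂ = J → Yr D x R₁ = Yr D x R₂ := by
  haveI := Fact.mk h.rp
  intro J
  induction J using WellFoundedGT.induction with
  | _ J ih =>
  intro R₁ R₂ m1 m2 f e
  by_contra hne
  have h1 := h.pl_Yr hx m1
  have h2 := h.pl_Yr hx m2
  have w1 : Ws (Yr D x R₁) ≤ R₁ := W_le_Q.trans Q_Yr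
  have w2 : Ws (Yr D x R₂) ≤ R₂ := W_le_Q.trans Q_Yr
  have hWJ : Ws (Yr D x R₁) ⊓ R₂ ≤ J := e ▸ inf_le_inf_right _ w1
  have hJ : J ≠ ⊥ := ne_bot_mono f hWJ
  have hne' : R₁ ≠ R₂ := fun e => hne (e ▸ rfl)
  have l1 : J < R₁ := lt_of_le_of_ne (e ▸ inf_le_left) fun e' =>
    hne' (le_antisymm (by rw [← e', ← e]; exact inf_le_right)
      (m1.max _ m2.pg m2.nx (by rw [← e', ← e]; exact inf_le_right)))
  have l2 : J < R₂ := lt_of_le_of_ne (e ▸ inf_le_right) fun e' =>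
    hne' (le_antisymm (m2.max _ m1.pg m1.nx (by rw [← e', ← e]; exact inf_le_left))
      (by rw [← e', ← e]; exact inf_le_left))
  have f2 : Ws (Yr D x R₂) ⊓ J ≠ ⊥ := by
    obtain ⟨c, hc, hcx, R₃, m3, a2, a1⟩ := (h.gd_norm (pgroup_of_le m1.pg l1.le) hJ).S3
      ⟨hx, e ▸ mem_norm_inf m1.nx m2.nx⟩
      (M := 𝐍(J)) (fun g hg => h.nz_sub (mem_norm_norm hg)) (Qs_le_of_subset Set.inter_subset_right)
      (pgroup_of_le m1.pg inf_le_left) (pgroup_of_le m2.pg inf_le_left) inf_le_right inf_le_right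
    have g1 := nil_norm_grow (pgroup_nil m1.pg) l1
    have g2 := nil_norm_grow (pgroup_nil m2.pg) l2
    have f' : Ws (Yr D x (c ⋆ R₁)) ⊓ J ≠ ⊥ := by
      rw [Yr_conj h.toHy0 hcx, Ws_cj, ← conj_eq_of_norm hc, ← Transfer.conj_inf, Ne, Transfer.conj_eq_bot_iff]
      exact ne_bot_mono f (le_inf inf_le_left hWJ)
    have e1 := ih _ ((conj_eq_of_norm hc ▸ Transfer.conj_lt_conj_iff.2 g1 :).trans_le
      (le_inf (Transfer.conj_mono c inf_le_left) a1)) _ _ (m1.conj hcx) m3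
      (ne_bot_mono f' (inf_le_inf_left _ (g2.le.trans a2))) rfl
    rw [e1] at f'
    rwa [ih _ (g2.trans_le (le_inf a2 inf_le_left)) _ _ m3 m2 (ne_bot_mono f' (inf_le_inf_left _ l2.le)) rfl] at f'
  have n1 := h.nz_Yr m1.nx
  have n2 := h.nz_Yr m2.nx
  set X₁ := Yr D x R₁
  set X₂ := Yr D x R₂
  obtain ⟨y₁, a1, b1, c1⟩ := h.exists_norm_pt h1 h2 hne (mem_Yr hx) (mem_Yr hx)
    (ne_bot_mono f2 (inf_le_inf_left _ (l1.le.trans n1)))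
  obtain ⟨y₂, a2, b2, c2⟩ := h.exists_norm_pt h2 h1 (Ne.symm hne) (mem_Yr hx) (mem_Yr hx)
    (ne_bot_mono f (inf_le_inf_left _ n2))
  rw [Set.inter_comm, sup_right_comm] at c2
  have nE : normalizer X₁ ⊓ normalizer X₂ ≤
      𝐍(Qs (X₁ ∩ X₂) ⊔ (Ws X₁ ⊓ normalizer X₂) ⊔ (Ws X₂ ⊓ normalizer X₁)) :=
    norm_sup (norm_sup (fun g hg => nz_le_nQ (nz_inter hg.1 hg.2))
      (norm_inf (inf_le_left.trans nz_le_nW) (le_norm_of_le inf_le_right)))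
      (norm_inf (inf_le_right.trans nz_le_nW) (le_norm_of_le inf_le_left))
  have hE := pgroup_of_le (h1.pg_sup (pgroup_of_le h2.pg (inf_le_left.trans W_le_Q))
    (inf_le_right : Ws X₂ ⊓ normalizer X₁ ≤ _)) (sup_le_sup_right (sup_le (Qs_mono Set.inter_subset_left)
      (inf_le_left.trans W_le_Q) : Qs (X₁ ∩ X₂) ⊔ (Ws X₁ ⊓ normalizer X₂) ≤ _) _)
  have hY := h.gd_norm hE (ne_bot_mono f ((inf_le_inf_left _ n2).trans (le_sup_right.trans le_sup_left)))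
  obtain ⟨R₄, m4, s4, l4⟩ := h.exists_mx_ge hY ⟨hx, nE ⟨h1.nz (mem_Yr hx), h2.nz (mem_Yr hx)⟩⟩
    (pgroup_of_le m1.pg l1.le) fun g hg => h.nz_sub (mem_norm_norm (nE ⟨n1 (l1.le hg), n2 (l2.le hg)⟩))
  refine hne ((ih _ (lt_of_le_of_ne (le_inf l1.le l4) fun e' => b1 ⟨a1.1, l2.le ?_⟩) _ _ m1 m4
    (ne_bot_mono f (le_inf inf_le_left (hWJ.trans l4))) rfl).trans
    (ih _ (lt_of_le_of_ne (le_inf l2.le l4) fun e' => b2 ⟨a2.1, l1.le ?_⟩) _ _ m2 m4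
    (ne_bot_mono f2 (inf_le_inf_left _ l4)) rfl).symm)
  · rw [e']; exact ⟨a1.2, (s4 ⟨a1.1, c1⟩).2⟩
  · rw [e']; exact ⟨a2.2, (s4 ⟨a2.1, c2⟩).2⟩

theorem claim (h1 : Pl p r D X₁) (h2 : Pl p r D X₂) (hx1 : x ∈ X₁) (hx2 : x ∈ X₂) (hw : w ∈ Ws X₁) (hw1 : w ≠ 1)
    (hn : w ∈ normalizer X₂) : X₁ = X₂ := by
  have hx := h1.sub hx1
  obtain ⟨R₁, m1, s1, -⟩ := h.exists_mx_ge h1.toGd hx1 IsPGroup.of_bot bot_le
  obtain ⟨R₂, m2, s2, l2⟩ := h.exists_mx_ge h2.toGd hx2 (pgroup_of_le h1.pg (zpowers_le.2 hw.1)) (zpowers_le.2 hn)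
  have e1 := h1.eq_of_sub (h.gd_Yr m1.pg m1.nx) s1
  rw [e1, h2.eq_of_sub (h.gd_Yr m2.pg m2.nx) s2]
  exact h.claim_aux hx _ _ _ m1 m2 (ne_bot_of_mem ⟨e1 ▸ hw, l2 (mem_zpowers w)⟩ hw1) rfl

/-- A good set meeting `X` and normalized by a nontrivial element of `W` lies in `X`. -/
theorem sub_of_W (hX : Pl p r D X) (hY : Gd p r D Y) (hx1 : x ∈ X) (hx2 : x ∈ Y) (hw : w ∈ Ws X) (hw1 : w ≠ 1)
    (hn : w ∈ normalizer Y) : Y ⊆ X := by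
  obtain ⟨Z, hZ, s, l⟩ := h.exists_pl hY hx2 (pgroup_of_le hX.pg (zpowers_le.2 hw.1)) (zpowers_le.2 hn)
  rwa [h.claim hX hZ hx1 (s hx2) hw hw1 (l (mem_zpowers w))]

theorem conj_pl (h1 : Pl p r D X₁) (h2 : Pl p r D X₂) (hY : Gd p r D Y) (hx : x ∈ Y) (s1 : Y ⊆ X₁) (s2 : Y ⊆ X₂) :
    ∃ c ∈ centralizer Y, cj c X₂ = X₁ := by
  haveI := Fact.mk h.rp
  obtain ⟨S, hS, l1⟩ := Syl.exists_ge (pgroup_of_le h1.pg W_le_Q) (W_le_C.trans (cz_anti s1))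
  obtain ⟨c, hc, l2⟩ := hS.exists_conj_le (pgroup_of_le h2.pg W_le_Q) (W_le_C.trans (cz_anti s2))
  obtain ⟨Z, hZ, s, l⟩ := h.exists_pl hY hx hS.pgroup (hS.le.trans cz_le_nz)
  obtain ⟨w₁, a1, b1⟩ := exists_ne_one h1.ne
  obtain ⟨w₂, a2, b2⟩ := exists_ne_one (h2.cj' c).ne
  refine ⟨c, hc, (h.claim (h2.cj' c) hZ ?_ (s hx) a2 b2 (l (l2 (Ws_cj c X₂ ▸ a2)))).trans
    (h.claim h1 hZ (s1 hx) (s hx) a1 b1 (l (l1 a1))).symm⟩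
  rw [← cz_conj hc hx]; exact conj_mem_cj.2 (s2 hx)

theorem conj_pl' (h1 : Pl p r D X₁) (h2 : Pl p r D X₂) : ∃ c, cj c X₂ = X₁ := by
  obtain ⟨x, hx⟩ := h1.nonempty
  obtain ⟨y, hy⟩ := h2.nonempty
  obtain ⟨g, rfl⟩ := isConj_iff.1 (h.trans y (h2.sub hy) x (h1.sub hx))
  obtain ⟨c, -, e⟩ := h.conj_pl h1 (h2.cj' g) (h.gd_one (h1.sub hx)) rfl (by simpa using hx)
    (by simpa using conj_mem_cj.2 hy)
  exact ⟨c * g, by rw [← cj_cj, e]⟩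

theorem card_W (h1 : Pl p r D X₁) (h2 : Pl p r D X₂) : Nat.card (Ws X₁) = Nat.card (Ws X₂) := by
  obtain ⟨c, rfl⟩ := h.conj_pl' h1 h2
  rw [Ws_cj, Transfer.card_conj]

theorem card_Q (h1 : Pl p r D X₁) (h2 : Pl p r D X₂) : Nat.card (Qs X₁) = Nat.card (Qs X₂) := by
  obtain ⟨c, rfl⟩ := h.conj_pl' h1 h2
  rw [Qs_cj, Transfer.card_conj]

theorem FX (hX : Pl p r D X) (hx : x ∈ X) (hu : u ≠ 1) (hux : x * u = u * x) (hw : w ∈ Ws X) (hw1 : w ≠ 1)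
    (hc : w * u = u * w) : D ∩ 𝐂[u] ⊆ X :=
  h.sub_of_W hX (h.gd_cent hu) hx ⟨hX.sub hx, mem_cent1.2 hux⟩ hw hw1 (h.nz_sub (le_norm _ (mem_cent1.2 hc)))

/-- Two distinct points are separated by a plane. -/
theorem block (hx : x ∈ D) (H : ∀ X, Pl p r D X → x ∈ X → y ∈ X) : y = x := by
  by_contra hne
  let B : G → Set G := fun z => {v | v ∈ D ∧ ∀ X, Pl p r D X → z ∈ X → v ∈ X}
  have hB : ∀ g z, cj g (B z) = B (g * z * g⁻¹) := by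
    have key : ∀ g z, cj g (B z) ⊆ B (g * z * g⁻¹) := fun g z v hv =>
      ⟨by simpa [mul_assoc] using h.conj _ hv.1 g, fun X hX hz => by
        simpa [mem_cj, mul_assoc] using hv.2 _ (hX.cj' g⁻¹) (by simpa [mem_cj] using hz)⟩
    refine fun g z => (key g z).antisymm ?_
    simpa [cj_cj_inv, mul_assoc] using cj_mono g (key g⁻¹ (g * z * g⁻¹))
  have hcl : Cl D (B x) := ⟨fun _ hv => hv.1, fun a ha b hb =>
    ⟨h.conj b hb.1 a, fun X hX hz => hX.cl a (ha.2 X hX hz) b (hb.2 X hX hz)⟩⟩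
  obtain ⟨X₀, hX₀, hx₀, -⟩ := h.pair_pl hx hx
  have hxB : x ∈ B x := ⟨hx, fun _ _ hz => hz⟩
  have hyB : y ∈ B x := ⟨hX₀.sub (H X₀ hX₀ hx₀), H⟩
  let K : Subgroup G := ⨅ z ∈ D, normalizer (B z)
  have hK : K.Normal := ⟨fun n hn g => by
    simp only [K, mem_iInf] at hn ⊢
    intro z hz
    have := hn _ (h.conj' hz g)
    rw [show B z = cj g (B (g⁻¹ * z * g)) by rw [hB]; simp [mul_assoc], nz_cj]
    exact Transfer.conj_mem_conj.2 this⟩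
  have hm : x⁻¹ * y ∈ K := by
    simp only [K, mem_iInf]
    intro z hz
    obtain ⟨X, hX, h1, h2⟩ := h.pair_pl hx hz
    obtain ⟨k, hk, rfl⟩ := hX.tr h1 h2
    have hq := mem_Qs h1 (H X hX h1)
    rw [← hB, nz_cj, Transfer.mem_conj]
    have := mul_mem (cz_le_nz (cz_anti (fun v hv => hv.2 X hX h1 : B x ⊆ X) (hX.cm (inv_mem hk) hq).2))
      (hcl.Q_nz (mem_Qs hxB hyB))
    rwa [show ⁅k⁻¹, x⁻¹ * y⁆ * (x⁻¹ * y) = k⁻¹ * (x⁻¹ * y) * k by rw [cm_def]; group] at this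
  obtain ⟨z, hz, hzX⟩ := h.not_sub hX₀.toGd
  obtain ⟨n, hn, rfl⟩ := h.normal_tr hK (ne_bot_of_mem hm fun e => hne (inv_mul_eq_one.1 e).symm) hx hz
  simp only [K, mem_iInf] at hn
  exact hzX ((nz_conj (hn x hx) hxB).2 X₀ hX₀ hx₀)

/-- The normalizer of a nontrivial subgroup of `Q_I`. -/
theorem perp (h1 : Pl p r D X₁) (hx1 : x ∈ X₁) {Q₀ : Subgroup G} (l1 : Q₀ ≤ Qs X₁)
    (hne : Q₀ ≠ ⊥) (hx : x ∈ 𝐍(Q₀)) : D ∩ 𝐍(Q₀) ⊆ X₁ := by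
  obtain ⟨w, hw, hw1⟩ := exists_ne_one h1.ne
  exact h.sub_of_W h1 (h.gd_norm (pgroup_of_le h1.pg l1) hne) hx1 ⟨h1.sub hx1, hx⟩ hw hw1
    (h.nz_sub (mem_norm_norm (cent_le_norm _ (mem_cent.2 fun k hk => W_Q hw (l1 hk)))))

end Mn

end Cfsg.Lib.FS
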