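import Cfsg.Agent.Lib.BG.Hall
import Cfsg.Agent.Lib.Coprime.Action

/-!
# Classes of elements of odd prime order, any two inside an `r`-group extended by one of them

`Hy p r D`: `D` is a conjugacy class of elements of odd prime order `p`; for `y, z ∈ D` the element `y⁻¹ z` lies in an
`r`-group normalized by `y`; the `r`-groups `Qs Y` spanned by closed subsets have class at most two, with derived group
centralized by `Y`.  The aim (`Lib.FS.Main`) is that `Qs D = [G, y]` is an `r`-group.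
-/

set_option autoImplicit false
set_option linter.unusedSectionVars false

namespace Cfsg.Lib.FS

open Subgroup Cfsg.Lib.BG
open scoped Cfsg.Lib.Transfer

variable {G : Type*} [Group G]

/-- The subgroup spanned by the quotients `a⁻¹ b` of elements of `Y`. -/
def Qs (Y : Set G) : Subgroup G := closure {g | ∃ a ∈ Y, ∃ b ∈ Y, a⁻¹ * b = g}

/-- The elements of `Qs Y` centralizing `Y`. -/
def Ws (Y : Set G) : Subgroup G := Qs Y ⊓ centralizer Y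

/-- The conjugate `g Y g⁻¹` of a set. -/
def cj (g : G) (Y : Set G) : Set G := {y | g⁻¹ * y * g ∈ Y}

/-- A closed subset of `D`. -/
structure Cl (D Y : Set G) : Prop where
  sub : Y ⊆ D
  cl : ∀ a ∈ Y, ∀ b ∈ Y, a * b * a⁻¹ ∈ Y

structure Hy0 (p r : ℕ) (D : Set G) : Prop where
  pp : p.Prime
  p2 : p ≠ 2
  rp : r.Prime
  ne : r ≠ p
  conj : ∀ y ∈ D, ∀ g : G, g * y * g⁻¹ ∈ D
  trans : ∀ y ∈ D, ∀ z ∈ D, IsConj y z
  ord : ∀ y ∈ D, orderOf y = p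
  pair : ∀ y ∈ D, ∀ z ∈ D, ∃ R : Subgroup G, IsPGroup r R ∧ y ∈ 𝐍(R) ∧ y⁻¹ * z ∈ R

structure Hy (p r : ℕ) (D : Set G) : Prop extends Hy0 p r D where
  cl2 : ∀ Y, Cl D Y → IsPGroup r (Qs Y) → ∀ a ∈ Qs Y, ∀ b ∈ Qs Y, a * b * a⁻¹ * b⁻¹ ∈ centralizer Y
  sq : r = 2 → ∀ Y, Cl D Y → IsPGroup r (Qs Y) → ∀ a ∈ Qs Y, a * a ∈ centralizer Y

variable {p r : ℕ} {D X Y Z : Set G} {x y z g : G}

theorem mem_cj : y ∈ cj g Y ↔ g⁻¹ * y * g ∈ Y := Iff.rfl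

theorem conj_mem_cj : g * y * g⁻¹ ∈ cj g Y ↔ y ∈ Y := by
  rw [mem_cj]; simp [mul_assoc]

theorem cj_one (Y : Set G) : cj 1 Y = Y := by ext y; simp [mem_cj]

theorem cj_cj (g h : G) (Y : Set G) : cj g (cj h Y) = cj (g * h) Y := by
  ext y; simp [mem_cj, mul_assoc]

theorem cj_inv_cj (g : G) (Y : Set G) : cj g⁻¹ (cj g Y) = Y := by rw [cj_cj, inv_mul_cancel, cj_one]

theorem cj_cj_inv (g : G) (Y : Set G) : cj g (cj g⁻¹ Y) = Y := by rw [cj_cj, mul_inv_cancel, cj_one]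

theorem cj_mono (g : G) (h : Y ⊆ Z) : cj g Y ⊆ cj g Z := fun _ hy => h hy

theorem mem_nz_iff : g ∈ normalizer Y ↔ ∀ y, y ∈ Y ↔ g * y * g⁻¹ ∈ Y := Iff.rfl

theorem cj_eq_iff : cj g Y = Y ↔ g ∈ normalizer Y := by
  rw [← inv_mem_iff, mem_nz_iff]
  simp only [inv_inv]
  exact ⟨fun h y => by rw [← mem_cj, h], fun h => Set.ext fun y => (h y).symm⟩

theorem nz_conj (hg : g ∈ normalizer Y) (hy : y ∈ Y) : g * y * g⁻¹ ∈ Y := (mem_nz_iff.1 hg y).1 hy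

theorem nz_conj' (hg : g ∈ normalizer Y) (hy : y ∈ Y) : g⁻¹ * y * g ∈ Y := by
  simpa using nz_conj (inv_mem hg) hy

theorem mem_nz [Finite G] (h : ∀ y ∈ Y, g * y * g⁻¹ ∈ Y) : g ∈ normalizer Y :=
  mem_normalizer_fintype h

theorem nz_inter (h1 : g ∈ normalizer Y) (h2 : g ∈ normalizer Z) : g ∈ normalizer (Y ∩ Z) :=
  mem_nz_iff.2 fun y => and_congr (mem_nz_iff.1 h1 y) (mem_nz_iff.1 h2 y)

theorem mem_cz : g ∈ centralizer Y ↔ ∀ y ∈ Y, y * g = g * y := mem_centralizer_iff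

theorem cz_conj (hg : g ∈ centralizer Y) (hy : y ∈ Y) : g * y * g⁻¹ = y := by
  rw [← mem_cz.1 hg y hy]; group

theorem cz_le_nz : centralizer Y ≤ normalizer Y := fun g hg =>
  mem_nz_iff.2 fun y => ⟨fun hy => by rwa [cz_conj hg hy], fun hy => by
    have := cz_conj (inv_mem hg) hy
    rw [inv_inv] at this
    rwa [show y = g * y * g⁻¹ by rw [← this]; group]⟩

theorem nz_cj (g : G) (Y : Set G) : normalizer (cj g Y) = g ⋆ normalizer Y := by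
  ext h
  rw [Transfer.mem_conj, ← cj_eq_iff, ← cj_eq_iff, cj_cj, mul_assoc, ← cj_cj g⁻¹]
  exact ⟨fun e => by rw [e, cj_inv_cj], fun e => by rw [← cj_cj_inv g (cj (h * g) Y), e]⟩

theorem cz_cj (g : G) (Y : Set G) : centralizer (cj g Y) = g ⋆ centralizer Y := by
  ext h
  rw [Transfer.mem_conj, mem_cz, mem_cz]
  refine ⟨fun H y hy => ?_, fun H y hy => ?_⟩
  · have := H _ (conj_mem_cj.2 hy)
    calc y * (g⁻¹ * h * g) = g⁻¹ * (g * y * g⁻¹ * h) * g := by group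
      _ = _ := by rw [this]; group
  · have := H _ hy
    calc y * h = g * (g⁻¹ * y * g * (g⁻¹ * h * g)) * g⁻¹ := by group
      _ = _ := by rw [this]; group

theorem mem_Qs (hy : y ∈ Y) (hz : z ∈ Y) : y⁻¹ * z ∈ Qs Y := subset_closure ⟨y, hy, z, hz, rfl⟩

theorem Qs_le {H : Subgroup G} (h : ∀ a ∈ Y, ∀ b ∈ Y, a⁻¹ * b ∈ H) : Qs Y ≤ H :=
  (closure_le _).2 (by rintro _ ⟨a, ha, b, hb, rfl⟩; exact h a ha b hb)

theorem Qs_le' {H : Subgroup G} (x : G) (h : ∀ b ∈ Y, x⁻¹ * b ∈ H) : Qs Y ≤ H :=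
  Qs_le fun a ha b hb => by
    have := H.mul_mem (H.inv_mem (h a ha)) (h b hb)
    rwa [show (x⁻¹ * a)⁻¹ * (x⁻¹ * b) = a⁻¹ * b by group] at this

theorem Qs_le_of_subset {H : Subgroup G} (h : Y ⊆ H) : Qs Y ≤ H :=
  Qs_le fun _ ha _ hb => H.mul_mem (H.inv_mem (h ha)) (h hb)

theorem Qs_mono (h : Y ⊆ Z) : Qs Y ≤ Qs Z := Qs_le fun _ ha _ hb => mem_Qs (h ha) (h hb)

theorem Qs_cj (g : G) (Y : Set G) : Qs (cj g Y) = g ⋆ Qs Y := by
  have key : ∀ (g : G) (Y : Set G), Qs (cj g Y) ≤ g ⋆ Qs Y := fun g Y => Qs_le fun a ha b hb => by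
    rw [Transfer.mem_conj]
    have := mem_Qs (Y := Y) (mem_cj.1 ha) (mem_cj.1 hb)
    rwa [show (g⁻¹ * a * g)⁻¹ * (g⁻¹ * b * g) = g⁻¹ * (a⁻¹ * b) * g by group] at this
  refine le_antisymm (key g Y) ?_
  rw [Transfer.conj_le_iff_le_inv_conj]
  simpa [cj_inv_cj] using key g⁻¹ (cj g Y)

theorem Ws_cj (g : G) (Y : Set G) : Ws (cj g Y) = g ⋆ Ws Y := by
  rw [Ws, Ws, Qs_cj, cz_cj, Transfer.conj_inf]

theorem nz_le_nQ : normalizer Y ≤ 𝐍(Qs Y) := fun g hg =>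
  norm_of_conj_eq (by rw [← Qs_cj, cj_eq_iff.2 hg])

theorem nz_le_nW : normalizer Y ≤ 𝐍(Ws Y) := fun g hg =>
  norm_of_conj_eq (by rw [← Ws_cj, cj_eq_iff.2 hg])

theorem nz_le_nC : normalizer Y ≤ 𝐍(centralizer Y) := fun g hg =>
  norm_of_conj_eq (by rw [← cz_cj, cj_eq_iff.2 hg])

theorem Q_conj (hg : g ∈ normalizer Y) {k : G} (hk : k ∈ Qs Y) : g * k * g⁻¹ ∈ Qs Y :=
  conj_mem_of_norm (nz_le_nQ hg) hk

theorem W_conj (hg : g ∈ normalizer Y) {k : G} (hk : k ∈ Ws Y) : g * k * g⁻¹ ∈ Ws Y :=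
  conj_mem_of_norm (nz_le_nW hg) hk

theorem W_le_Q : Ws Y ≤ Qs Y := inf_le_left

theorem W_le_C : Ws Y ≤ centralizer Y := inf_le_right

theorem W_le_nz : Ws Y ≤ normalizer Y := W_le_C.trans cz_le_nz

/-- An element centralizing `Y` centralizes `Qs Y`. -/
theorem cz_Q (hg : g ∈ centralizer Y) {k : G} (hk : k ∈ Qs Y) : k * g = g * k := by
  have : Qs Y ≤ 𝐂[g] := Qs_le_of_subset fun y hy => mem_cent1.2 (mem_cz.1 hg y hy)
  exact mem_cent1.1 (this hk)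

theorem W_Q {w k : G} (hw : w ∈ Ws Y) (hk : k ∈ Qs Y) : k * w = w * k := cz_Q hw.2 hk

theorem W_pt {w : G} (hw : w ∈ Ws Y) (hy : y ∈ Y) : y * w = w * y := mem_cz.1 hw.2 y hy

namespace Cl

theorem nz [Finite G] (h : Cl D Y) (hy : y ∈ Y) : y ∈ normalizer Y := mem_nz (h.cl y hy)

theorem Q_nz [Finite G] (h : Cl D Y) : Qs Y ≤ normalizer Y := Qs_le_of_subset fun _ hy => h.nz hy

theorem inter (h : Cl D Y) (h' : Cl D Z) : Cl D (Y ∩ Z) :=
  ⟨fun _ hy => h.sub hy.1, fun a ha b hb => ⟨h.cl a ha.1 b hb.1, h'.cl a ha.2 b hb.2⟩⟩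

theorem mul_inv_mem [Finite G] (h : Cl D Y) (hy : y ∈ Y) (hz : z ∈ Y) : y * z⁻¹ ∈ Qs Y := by
  have := Q_conj (h.nz hy) (mem_Qs hz hy)
  rwa [show y * (z⁻¹ * y) * y⁻¹ = y * z⁻¹ by group] at this

end Cl

namespace Hy0

variable (h : Hy0 p r D)
include h

theorem conj' (hy : y ∈ D) (g : G) : g⁻¹ * y * g ∈ D := by simpa using h.conj y hy g⁻¹

theorem cj_D (g : G) : cj g D = D :=
  Set.ext fun y => ⟨fun hy => by simpa [mul_assoc] using h.conj _ hy g, fun hy => h.conj' hy g⟩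

theorem cl_D : Cl D D := ⟨subset_rfl, fun a _ b hb => h.conj b hb a⟩

theorem cl_sub (H : Subgroup G) : Cl D (D ∩ H) :=
  ⟨Set.inter_subset_left, fun a ha b hb =>
    ⟨h.conj b hb.1 a, H.mul_mem (H.mul_mem ha.2 hb.2) (H.inv_mem ha.2)⟩⟩

theorem cl_one (hx : x ∈ D) : Cl D {x} :=
  ⟨by simpa using hx, by rintro a rfl b rfl; simp⟩

theorem cl_cj (hY : Cl D Y) (g : G) : Cl D (cj g Y) :=
  ⟨fun y hy => by simpa [mul_assoc] using h.conj _ (hY.sub hy) g, fun a ha b hb => by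
    have := hY.cl _ ha _ hb
    rw [mem_cj]
    rwa [show g⁻¹ * (a * b * a⁻¹) * g = g⁻¹ * a * g * (g⁻¹ * b * g) * (g⁻¹ * a * g)⁻¹ by group]⟩

theorem nz_sub {H : Subgroup G} (hg : g ∈ 𝐍(H)) : g ∈ normalizer (D ∩ H) :=
  nz_inter (cj_eq_iff.1 (h.cj_D g)) hg

theorem ne_one (hy : y ∈ D) : y ≠ 1 := fun e => by
  have := h.ord y hy
  rw [e, orderOf_one] at this
  exact h.pp.one_lt.ne this

theorem pow_p (hy : y ∈ D) : y ^ p = 1 := by rw [← h.ord y hy]; exact pow_orderOf_eq_one y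

variable [Finite G]

theorem cop (hy : y ∈ D) {R : Subgroup G} (hR : IsPGroup r R) :
    (Nat.card (zpowers y)).Coprime (Nat.card R) := by
  haveI := Fact.mk h.rp
  obtain ⟨k, hk⟩ := IsPGroup.iff_card.1 hR
  rw [Nat.card_zpowers, h.ord y hy, hk]
  exact Nat.Coprime.pow_right _ ((Nat.coprime_primes h.pp h.rp).2 h.ne.symm)

/-- Two points differing by a commuting `r`-element coincide. -/
theorem eq_of_comm {R : Subgroup G} (hR : IsPGroup r R) (hy : y ∈ D) (hz : z ∈ D) (hm : y⁻¹ * z ∈ R)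
    (hc : y * z = z * y) : y = z := by
  have h1 : (y⁻¹ * z) ^ p = 1 := by
    rw [Commute.mul_pow (Commute.inv_left hc), inv_pow, h.pow_p hy, h.pow_p hz]; simp
  obtain ⟨k, hk⟩ := hR ⟨_, hm⟩
  have h2 : (y⁻¹ * z) ^ r ^ k = 1 := by simpa using congrArg Subtype.val hk
  have h3 := pow_gcd_eq_one.2 ⟨h1, h2⟩
  rw [Nat.Coprime.gcd_eq_one (Nat.Coprime.pow_right _ ((Nat.coprime_primes h.pp h.rp).2 h.ne.symm)),
    pow_one] at h3
  exact inv_mul_eq_one.1 h3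

theorem eq_of_comm' (hy : y ∈ D) (hz : z ∈ D) (hc : y * z = z * y) : y = z := by
  obtain ⟨R, hR, -, hm⟩ := h.pair y hy z hz
  exact h.eq_of_comm hR hy hz hm hc

theorem exists_conj {R : Subgroup G} (hR : IsPGroup r R) (hy : y ∈ D) (hz : z ∈ D) (hn : y ∈ 𝐍(R))
    (hm : y⁻¹ * z ∈ R) : ∃ g ∈ R, g * y * g⁻¹ = z := by
  haveI := Fact.mk h.rp
  obtain ⟨k, rfl⟩ := isConj_iff.1 (h.trans y hy z hz)
  have key : ∀ n : ℕ, y ^ n * k * (y ^ n)⁻¹ * k⁻¹ ∈ R := by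
    intro n
    induction n with
    | zero => simp
    | succ n ih =>
      have := R.mul_mem (conj_mem_of_norm hn ih) (R.inv_mem (conj_mem_of_norm hn hm))
      convert this using 1
      rw [pow_succ']; group
  obtain ⟨n, hn', hc⟩ := Coprime.exists_mul_mem_centralizer' (A := zpowers y) (N := R) (k := k)
    ((zpowers_le).2 hn) (h.cop hy hR) (Or.inr (pgroup_sol hR)) (by
      intro a ha
      obtain ⟨n, rfl⟩ := mem_powers_iff_mem_zpowers.2 ha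
      exact key n)
  refine ⟨n⁻¹, R.inv_mem hn', ?_⟩
  have := mem_cent.1 hc y (mem_zpowers y)
  calc n⁻¹ * y * n⁻¹⁻¹ = n⁻¹ * (y * (n * k)) * k⁻¹ := by group
    _ = _ := by rw [this]; group

end Hy0

end Cfsg.Lib.FS
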