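import Cfsg.Agent.Lib.FS.Defs
import Cfsg.Agent.Lib.Char.Central

/-!
# The flat case: all pairs lie in abelian `r`-groups
-/

set_option autoImplicit false
set_option linter.unusedSectionVars false

namespace Cfsg.Lib.FS

open Subgroup Cfsg.Lib.BG Cfsg.Lib.Char
open scoped Cfsg.Lib.Transfer

variable {G : Type*} [Group G] {p r : ℕ} {D : Set G}

theorem conj_sq_of_abelian {R : Subgroup G} (hR : IsMulCommutative R) {s v : G} (hs : s ∈ 𝐍(R)) (hv : v ∈ R)
    {m : ℕ} (hm : s ^ (2 * m + 1) = 1) : IsConj (s ^ 2) (v * s * v⁻¹ * s) := by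
  have key : ∀ n : ℕ, ∃ l ∈ R, l * s ^ 2 * l⁻¹ = v * s ^ (2 * n) * v⁻¹ * (s ^ (2 * n))⁻¹ * s ^ 2 := by
    intro n
    induction n with
    | zero => exact ⟨1, R.one_mem, by simp⟩
    | succ n ih =>
      obtain ⟨l, hl, e⟩ := ih
      refine ⟨v * (s ^ 2 * l * (s ^ 2)⁻¹), R.mul_mem hv (conj_mem_of_norm (pow_mem hs 2) hl), ?_⟩
      have c := le_cent_iff.1 (abelian_cent hR) _ (conj_mem_of_norm (pow_mem hs 2) hv) _
        (conj_mem_of_norm (pow_mem hs (2 * (n + 1))) (R.inv_mem hv))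
      calc v * (s ^ 2 * l * (s ^ 2)⁻¹) * s ^ 2 * (v * (s ^ 2 * l * (s ^ 2)⁻¹))⁻¹
          = v * s ^ 2 * (l * s ^ 2 * l⁻¹) * (s ^ 2)⁻¹ * v⁻¹ := by group
        _ = v * (s ^ 2 * v * (s ^ 2)⁻¹ * (s ^ (2 * (n + 1)) * v⁻¹ * (s ^ (2 * (n + 1)))⁻¹)) * s ^ 2 * v⁻¹ := by
          rw [e]; group
        _ = _ := by rw [c]; group
  obtain ⟨l, -, e⟩ := key (m + 1)
  have e2 : s ^ (2 * (m + 1)) = s := by rw [show 2 * (m + 1) = 2 * m + 1 + 1 by ring, pow_succ, hm, one_mul]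
  exact isConj_iff.2 ⟨l, by rw [e, e2]; group⟩

theorem Hy0.flat [Finite G] (h : Hy0 p r D) {x : G} (hx : x ∈ D)
    (H : ∀ y ∈ D, ∃ R : Subgroup G, IsMulCommutative R ∧ x ∈ 𝐍(R) ∧ ∃ v ∈ R, v * x * v⁻¹ = y) :
    IsPGroup r (Qs D) := by
  classical
  haveI := Fintype.ofFinite G
  obtain ⟨m, hm⟩ := h.pp.odd_of_ne_two h.p2
  have hχ : ∀ χ : G → ℂ, IsIrrCharacter G χ → χ x = 0 ∨ x ∈ charCenter χ := by
    intro χ hχ
    have h1 := hχ.apply_one_ne_zero
    have sq : ∀ i : ℕ, χ (x ^ (2 * i)) / χ 1 = (χ (x ^ i) / χ 1) ^ 2 := fun i => by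
      have e := hχ.sum_conj_mul (x ^ i) (x ^ i)
      rw [Finset.sum_congr rfl (g := fun _ => χ (x ^ (2 * i))) fun g _ => ?_] at e
      · simp only [Finset.sum_const, Finset.card_univ, nsmul_eq_mul, Nat.card_eq_fintype_card] at e
        have hG : (Fintype.card G : ℂ) ≠ 0 := by simp
        field_simp at e ⊢
        linear_combination e
      · obtain ⟨R, hR, hn, v, hv, e⟩ := H _ (h.conj x hx g)
        have := conj_sq_of_abelian hR (pow_mem hn i) hv (m := m) (by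
          rw [← pow_mul, mul_comm, pow_mul, ← hm, h.pow_p hx, one_pow])
        rw [← pow_mul, mul_comm i, ← conj_pow, e, conj_pow] at this
        exact (hχ.isClassFunction.eq_of_isConj this).symm
    have it : ∀ k : ℕ, χ (x ^ 2 ^ k) / χ 1 = (χ x / χ 1) ^ 2 ^ k := fun k => by
      induction k with
      | zero => simp
      | succ k ih => rw [pow_succ' 2 k, sq, ih, ← pow_mul, mul_comm]
    have hp1 : 2 ^ (p - 1) ≡ 1 [MOD p] := by
      rw [← Nat.totient_prime h.pp]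
      exact Nat.ModEq.pow_totient ((Nat.coprime_primes Nat.prime_two h.pp).2 h.p2.symm)
    have e := it (p - 1)
    rw [(pow_eq_pow_iff_modEq.2 (by rwa [h.ord x hx]) : x ^ 2 ^ (p - 1) = x ^ 1), pow_one] at e
    by_cases h0 : χ x = 0
    · exact Or.inl h0
    refine Or.inr (hχ.isCharacter.mem_charCenter_iff.2 ?_)
    have hlt : 1 < 2 ^ (p - 1) := Nat.one_lt_two_pow (by have := h.pp.two_le; omega)
    obtain ⟨n, hn⟩ : ∃ n, 2 ^ (p - 1) = n + 1 := ⟨2 ^ (p - 1) - 1, by omega⟩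
    rw [hn, pow_succ] at e
    have := Complex.norm_eq_one_of_pow_eq_one
      ((mul_eq_right₀ (div_ne_zero h0 h1)).1 e.symm) (by omega)
    rwa [norm_div, div_eq_one_iff_eq (by simpa using h1)] at this
  have key : ∀ k ∈ Qs D, IsConj x (k * x) := fun k hk => by
    by_contra hc
    have e := sum_irr_mul_conj_of_not_isConj (fun h' => hc h'.symm)
    rw [Finset.sum_congr rfl (g := fun χ : IrrCharacter G => (χ : G → ℂ) x * (starRingEnd ℂ) ((χ : G → ℂ) x))
      fun χ _ => ?_, sum_irr_mul_conj_of_isConj (IsConj.refl x)] at e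
    · exact (Nat.card_pos (α := centralizer ({x} : Set G))).ne' (by exact_mod_cast e)
    · rcases hχ χ χ.2 with h0 | hz
      · simp [h0]
      · have : Qs D ≤ charKer (χ : G → ℂ) := Qs_le' x fun b hb => by
          obtain ⟨g, rfl⟩ := isConj_iff.1 (h.trans x hx b hb)
          simpa [mul_assoc] using χ.2.isCharacter.commutator_mem_charKer (inv_mem hz) g
        rw [mem_charKer.1 (this hk)]
  intro k
  obtain ⟨g, e⟩ := isConj_iff.1 (key k k.2)
  obtain ⟨R, hR, hn, hm⟩ := h.pair x hx _ (h.conj x hx g)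
  obtain ⟨n, hn⟩ := hR ⟨_, conj_mem_of_norm hn hm⟩
  refine ⟨n, Subtype.ext ?_⟩
  simpa [e, mul_assoc] using congrArg Subtype.val hn

end Cfsg.Lib.FS
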