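import Cfsg.Agent.Lib.FS.Two

/-!
# The case `r = 2`, conclusion
-/

set_option autoImplicit false
set_option linter.unusedSectionVars false

namespace Cfsg.Lib.FS

open Subgroup Cfsg.Lib.BG
open scoped Cfsg.Lib.Transfer commutatorElement

variable {G : Type*} [Group G] [Finite G]
variable {p r : ℕ} {D X Y Z X' X'' : Set G} {x y z g a b c k u w t : G}

/-- The groups `W` of two planes commute. -/
def Rl (X X' : Set G) : Prop := ∀ a ∈ Ws X, ∀ b ∈ Ws X', a * b = b * a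

theorem Rl.symm (h : Rl X X') : Rl X' X := fun a ha b hb => (h b hb a ha).symm

theorem Rl.refl (X : Set G) : Rl X X := fun _ ha _ hb => W_Q hb ha.1

theorem card_orb (H : Subgroup G) (x : G) :
    {y | ∃ g ∈ H, g * x * g⁻¹ = y}.ncard * Nat.card ↥(H ⊓ 𝐂[x]) = Nat.card H := by
  rw [← card_mul_relIndex (inf_le_left : H ⊓ 𝐂[x] ≤ H), mul_comm, inf_relIndex_left]
  congr 1
  let f : H ⧸ (𝐂[x].subgroupOf H) → {y | ∃ g ∈ H, g * x * g⁻¹ = y} := fun q => q.liftOn'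
    (fun g => ⟨g * x * g⁻¹, g, g.2, rfl⟩) fun a b hab => Subtype.ext (by
      have : (a : G)⁻¹ * b * x = x * ((a : G)⁻¹ * b) :=
        mem_cent1.1 (mem_subgroupOf.1 (QuotientGroup.leftRel_apply.1 hab))
      change (a : G) * x * (a : G)⁻¹ = b * x * (b : G)⁻¹
      calc (a : G) * x * (a : G)⁻¹ = a * (x * ((a : G)⁻¹ * b)) * (b : G)⁻¹ := by group
        _ = _ := by rw [← this]; group)
  refine (Nat.card_congr (Equiv.ofBijective f ⟨fun q₁ q₂ => ?_, ?_⟩)).symm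
  · induction q₁ using QuotientGroup.induction_on
    induction q₂ using QuotientGroup.induction_on
    rename_i a b
    intro e
    have e' : (a : G) * x * (a : G)⁻¹ = b * x * (b : G)⁻¹ := congrArg Subtype.val e
    refine QuotientGroup.eq.2 (mem_cent1.2 ?_ : (a : G)⁻¹ * b ∈ 𝐂[x])
    calc (a : G)⁻¹ * b * x = (a : G)⁻¹ * (b * x * (b : G)⁻¹) * b := by group
      _ = _ := by rw [← e']; group
  · rintro ⟨_, g, hg, rfl⟩
    exact ⟨QuotientGroup.mk ⟨g, hg⟩, rfl⟩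

namespace Mn

variable (h : Mn p r D) (hr : r = 2) (hX : Pl p r D X) (hX' : Pl p r D X')
include h hr hX hX'

theorem card_AB (hw : w ∈ Ws X') (hwn : w ∉ normalizer X) :
    ∃ f : ↥(Ws X ⊓ normalizer X') → ↥(Ws X' ⊓ normalizer X), Function.Injective f ∧ ∀ a, (f a : G) = ⁅w, (a : G)⁆ :=
  ⟨fun a => ⟨_, h.cm_B hr hX hX' hw a.2⟩, fun a b e => Subtype.ext
    (h.cm_inj hX hwn a.2.1 b.2.1 (congrArg Subtype.val e)), fun _ => rfl⟩

theorem comm_AB (hne : X ≠ X') (ha : a ∈ Ws X ⊓ normalizer X') (hb : b ∈ Ws X' ⊓ normalizer X) : a * b = b * a := by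
  refine cm_one_iff.1 (h.W_disj hX hX' hne ?_ (cm_inv b a ▸ inv_mem (h.cm_B hr hX hX' hb.1 ha).1))
  exact (h.cm_B hr hX' hX ha.1 hb).1

theorem B_ne (ha : a ∈ Ws X ⊓ normalizer X') (ha1 : a ≠ 1) : Ws X' ⊓ normalizer X ≠ ⊥ := by
  obtain ⟨w, hw, hw1⟩ := exists_ne_one hX'.ne
  by_cases e : ⁅w, a⁆ = 1
  · exact ne_bot_of_mem ⟨hw, h.nz_of_comm hX ha.1 ha1 (cm_one_iff.1 e)⟩ hw1
  · exact ne_bot_of_mem (h.cm_B hr hX hX' hw ha) e

theorem stepB (hne : X ≠ X') (ha : a ∈ Ws X ⊓ normalizer X') (ha1 : a ≠ 1) : Ws X' ≤ normalizer X := by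
  by_contra H
  obtain ⟨w₀, hw₀, hn₀⟩ := SetLike.not_le_iff_exists.1 H
  obtain ⟨f₀, hf₀, -⟩ := h.card_AB hr hX hX' hw₀ hn₀
  have H' : ¬ Ws X ≤ normalizer X' := fun hle => by
    have := Nat.card_le_card_of_injective f₀ hf₀
    rw [inf_eq_left.2 hle, h.card_W hX hX'] at this
    exact H (inf_eq_left.1 (eq_of_le_of_card_le inf_le_left this))
  obtain ⟨w₁, hw₁, hn₁⟩ := SetLike.not_le_iff_exists.1 H'
  obtain ⟨f₁, hf₁, -⟩ := h.card_AB hr hX' hX hw₁ hn₁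
  obtain ⟨b, hb, hb1⟩ := exists_ne_one (h.B_ne hr hX hX' ha ha1)
  obtain ⟨x, hx⟩ := hX.nonempty
  obtain ⟨x', hx'⟩ := hX'.nonempty
  obtain ⟨g, hg, u, hu, e, hux, hug, e2, -⟩ := hX.dec hr hx hb.2 (hX'.W_sq hr hx' hb.1)
  have hu' : u ∈ normalizer X' := h.nz_of_comm hX' hb.1 hb1 (by rw [e, ← mul_assoc, hug])
  have huu : u * u ∈ Ws X ⊓ normalizer X' :=
    ⟨by rw [eq_inv_of_mul_eq_one_right e2]; exact (Ws X).inv_mem (hX.sq hr hg), mul_mem hu' hu'⟩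
  obtain ⟨w, hw, hwB, hc⟩ := exists_fix_mod (B := Ws X' ⊓ normalizer X) (nz_le_nW hu')
    (fun a ha => by rw [hX'.W_sq hr hx' ha]; exact one_mem _)
    (fun a ha => cm_inv a (u * u) ▸ inv_mem (h.cm_B hr hX hX' ha huu)) fun hle => H (hle.trans inf_le_right)
  have hwn : w ∉ normalizer X := fun e => hwB ⟨hw, e⟩
  obtain ⟨f, hf, hfe⟩ := h.card_AB hr hX hX' hw hwn
  obtain ⟨⟨a', ha'⟩, e3⟩ := (hf.bijective_of_nat_card_le (Nat.card_le_card_of_injective f₁ hf₁)).2 ⟨_, hc⟩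
  replace e3 : ⁅w, a'⁆ = ⁅u, w⁆ := (hfe _).symm.trans (congrArg Subtype.val e3)
  have c1 : a' * u * w = w * (a' * u) := by
    calc a' * u * w = a' * ⁅u, w⁆ * w * u := by rw [cm_def]; group
      _ = _ := by rw [h.comm_AB hr hX hX' hne ha' hc, ← e3, cm_def]; group
  have c2 : x * (a' * u) = a' * u * x := by rw [mul_assoc, hux, ← mul_assoc, W_pt ha'.1 hx, mul_assoc]
  have c3 : a * u = u * a := by
    rw [show u = g⁻¹ * b by rw [e]; group, ← mul_assoc, ← W_Q ha.1 (inv_mem hg), mul_assoc,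
      h.comm_AB hr hX hX' hne ha hb, mul_assoc]
  by_cases h1 : a' * u = 1
  · refine hn₁ (h.nz_of_comm hX' hb.1 hb1 (W_Q hw₁ ?_).symm)
    rw [e, eq_inv_of_mul_eq_one_right h1]; exact mul_mem hg (inv_mem ha'.1.1)
  have hm := h.FX hX hx h1 c2 ha.1 ha1 (by rw [← mul_assoc, W_Q ha'.1 ha.1.1, mul_assoc, c3, mul_assoc])
    (⟨h.conj' (hX.sub hx) w, mem_cent1.2
      (((Commute.inv_left c1.symm).mul_left c2).mul_left c1.symm).eq⟩ : w⁻¹ * x * w ∈ D ∩ 𝐂[a' * u])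
  refine hne (h.claim hX hX' hx (h.mem_of_fix hX' (h.cm_B hr hX hX' hw ha).1
    (fun e => hwn (h.nz_of_comm hX ha.1 ha1 (cm_one_iff.1 e))) (hX.sub hx) ?_) ha.1 ha1 ha.2)
  calc x * ⁅w, a⁆ = w * (w⁻¹ * x * w * a) * w⁻¹ * a⁻¹ := by rw [cm_def]; group
    _ = ⁅w, a⁆ * (a * x * a⁻¹) := by rw [W_pt ha.1 hm, cm_def]; group
    _ = _ := by rw [cz_conj ha.1.2 hx]

theorem rl_of (ha : a ∈ Ws X) (ha1 : a ≠ 1) (hn : a ∈ normalizer X') : Rl X X' := by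
  by_cases hne : X = X'
  · exact hne ▸ Rl.refl X
  have h1 := h.stepB hr hX hX' hne ⟨ha, hn⟩ ha1
  obtain ⟨b, hb, hb1⟩ := exists_ne_one (h.B_ne hr hX hX' ⟨ha, hn⟩ ha1)
  have h2 := h.stepB hr hX' hX (Ne.symm hne) hb hb1
  exact fun a ha b hb => h.comm_AB hr hX hX' hne ⟨ha, h2 ha⟩ ⟨hb, h1 hb⟩

theorem nz_of_rl (hR : Rl X X') (hb : b ∈ Ws X') : b ∈ normalizer X := by
  obtain ⟨w, hw, hw1⟩ := exists_ne_one hX.ne
  exact h.nz_of_comm hX hw hw1 (hR w hw b hb).symm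

theorem star1 (hne : X ≠ X') (hR : Rl X X') (hc : c ∈ Ws X') (hcQ : c ∈ Qs X) (hc1 : c ≠ 1) : Ws X' ≤ Qs X := by
  intro b hb
  obtain ⟨x, hx⟩ := hX.nonempty
  obtain ⟨x', hx'⟩ := hX'.nonempty
  obtain ⟨g, hg, u, hu, e, hux, hug, e2, l, hl, e3, hul, w, hw, e4⟩ :=
    hX.dec hr hx (h.nz_of_rl hr hX hX' hR hb) (hX'.W_sq hr hx' hb)
  have hbc : g * u * c = c * (g * u) := e ▸ W_Q hc hb.1
  have huW : u ∈ 𝐂(Ws X) := (Subgroup.mul_mem_cancel_left _ (hX.Q_cW hg)).1 (e ▸ mem_cent.2 fun a ha => hR a ha b hb)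
  have hf := hX.fix_of_comm hx hg hux hcQ (by rw [cm_one_iff.2 hbc]; exact one_mem _)
  obtain ⟨l₀, hl₀, hul₀, w₀, hw₀, e5⟩ := hX.L3_fix hx hcQ hux hf
  have key : ∀ l ∈ Qs X, u * l = l * u → ⁅l, c⁆ = 1 → ⁅l, g⁆ = 1 := fun l hl hul hlc => by
    have hn := h.nz_of_comm hX' hc hc1 (cm_one_iff.1 hlc)
    refine h.W_disj hX hX' hne (hX.cm hl hg) ?_
    have := (Ws X').mul_mem (W_conj hn hb) ((Ws X').inv_mem hb)
    rwa [e, show l * (g * u) * l⁻¹ * (g * u)⁻¹ = l * g * (u * l⁻¹ * u⁻¹) * g⁻¹ by group,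
      (Commute.inv_right hul).eq, mul_inv_cancel_right] at this
  have k1 := key l₀ hl₀ hul₀ (by rw [← hX.sq_eq hr hx hl₀ hw₀ e5, hX'.W_sq hr hx' hc])
  have k2 : ⁅c, g⁆ = 1 := by
    rw [← mul_assoc, mul_assoc g, hX.cent_of_fix hx hcQ hux huW hf, ← mul_assoc] at hbc
    exact cm_one_iff.2 (mul_right_cancel hbc).symm
  have hs := hX.x_conj hx hl
  have hs₀ := hX.x_conj hx hl₀
  have f1 : ∀ l, ⁅l, x⁆ = l * (x * l * x⁻¹)⁻¹ := fun l => by rw [cm_def]; group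
  rw [e5, f1, hX.cm_mul_W_left (mul_mem hl₀ (inv_mem hs₀)) hw₀ hg, hX.cm_mul_left hl₀ (inv_mem hs₀) hg, k1, one_mul,
    hX.cm_inv_left hs₀ hg, inv_eq_one, e4, f1, hX.cm_mul_W_right (mul_mem hl (inv_mem hs)) hw hs₀,
    hX.cm_mul_right hs₀ hl (inv_mem hs), hX.cm_inv_right hs hs₀, hX.cm_act (hX.pt_cW hx) hl₀ hl] at k2
  have k3 := key l hl hul (by
    rw [e5, f1, hX.cm_mul_W_right (mul_mem hl₀ (inv_mem hs₀)) hw₀ hl, hX.cm_mul_right hl hl₀ (inv_mem hs₀),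
      hX.cm_inv_right hs₀ hl, cm_inv, ← cm_inv l₀ l, mul_inv_eq_one.1 k2, inv_mul_cancel])
  rw [e]
  exact h.mem_Q_of_sq hr hX hx hg hu hux e2 (by rw [hX.sq_eq hr hx hl hw e4, k3])

theorem lemG (hd : ∀ b ∈ Ws X', b ∈ Qs X → b = 1) (hg : g ∈ Qs X) (hgW : g ∈ 𝐂(Ws X'))
    (g1 : g * g ≠ 1) (hk : k ∈ Qs X') (hc : ⁅k, g * g⁆ ∈ Ws X') : ⁅k, g * g⁆ = 1 := by
  obtain ⟨x', hx'⟩ := hX'.nonempty
  obtain ⟨w, hw, hw1⟩ := exists_ne_one hX'.ne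
  have hgn : g ∈ normalizer X' := h.nz_of_comm hX' hw hw1 (mem_cent.1 hgW w hw).symm
  have hq : ⁅g⁻¹, k⁆ ∈ Qs X' := by simpa [cm_def] using mul_mem (Q_conj (inv_mem hgn) hk) (inv_mem hk)
  have c1 : Commute g ⁅k, g * g⁆ := (mem_cent.1 hgW _ hc).symm
  have c2 : Commute k ⁅k, g * g⁆ := W_Q hc hk
  have c3 : Commute (k * g * k⁻¹) (g * g) := by
    have := ((c2.mul_left c1).mul_left c2.inv_left).inv_right.mul_right
      ((Commute.refl (k * g * k⁻¹)).mul_right (Commute.refl _))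
    rwa [show ⁅k, g * g⁆⁻¹ * (k * g * k⁻¹ * (k * g * k⁻¹)) = g * g by simp [cm_def, mul_assoc]] at this
  have hn : ⁅g⁻¹, k⁆ ∈ normalizer X := h.nz_of_comm hX (hX.sq hr hg) g1 (by
    have := (((Commute.refl g).mul_right (Commute.refl g)).inv_left.mul_left c3).eq
    rwa [show g⁻¹ * (k * g * k⁻¹) = ⁅g⁻¹, k⁆ by rw [cm_def]; group] at this)
  have e1 : ⁅g⁻¹, ⁅g⁻¹, k⁆⁆ * (⁅g⁻¹, k⁆ * ⁅g⁻¹, k⁆) = ⁅k, g * g⁆ := by
    calc _ = (g * g)⁻¹ * (⁅k, g * g⁆ * (g * g)) := by simp only [cm_def]; group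
      _ = _ := by rw [← (c1.mul_left c1).eq]; group
  have e2 : ⁅g⁻¹, ⁅g⁻¹, k⁆⁆ = 1 := hd _
    (by rw [eq_mul_inv_of_mul_eq e1]; exact mul_mem hc (inv_mem (hX'.sq hr hq)))
    (by simpa [cm_def g⁻¹ ⁅g⁻¹, k⁆, mul_assoc] using mul_mem (inv_mem hg) (Q_conj hn hg))
  rw [← e1, e2, one_mul]
  refine hX'.formF hr hx' (inv_mem hgn) (inv_mem hgW) hk (one_mem _) (mul_one _).symm fun l _ => ?_
  rw [inv_inv, mul_assoc g, ← cm_one_iff.1 e2, mul_inv_cancel_left, mul_inv_cancel, commutatorElement_one_right]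

theorem star2 (hne : X ≠ X') (hR : Rl X X') (hd : ∀ b ∈ Ws X', b ∈ Qs X → b = 1) : False := by
  obtain ⟨x, hx⟩ := hX.nonempty
  obtain ⟨x', hx'⟩ := hX'.nonempty
  obtain ⟨k, hk, hb1⟩ : ∃ k ∈ Qs X', k * k ≠ 1 := by
    by_contra! H
    refine hX'.ne (eq_bot_mono (comm_eq_bot_iff.2 (le_cent_iff.2 fun a ha b hb => ?_)) (hX'.W_le_der hx'))
    rw [← inv_of_sq (H _ (mul_mem ha hb)), mul_inv_rev, inv_of_sq (H a ha), inv_of_sq (H b hb)]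
  have hb := hX'.sq hr hk
  obtain ⟨g, hg, u, hu, e, hux, hug, e2, -⟩ := hX.dec hr hx (h.nz_of_rl hr hX hX' hR hb) (hX'.W_sq hr hx' hb)
  have g1 : g * g ≠ 1 := fun g2 => hb1 (hd _ hb (e ▸ h.mem_Q_of_sq hr hX hx hg hu hux e2 g2))
  have hgn : g ∈ normalizer X' := h.nz_of_comm hX' hb hb1 (by rw [e, mul_assoc, hug])
  have hgW : g ∈ 𝐂(Ws X') := mem_cent.2 fun b hb => cm_one_iff.1 (hd _
    (cm_inv g b ▸ inv_mem ((Ws X').mul_mem (W_conj hgn hb) ((Ws X').inv_mem hb)))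
    ((Qs X).mul_mem (Q_conj (h.nz_of_rl hr hX hX' hR hb) hg) ((Qs X).inv_mem hg)))
  have ha := hX.sq hr hg
  have haQ : g * g ∈ Qs X' := by
    obtain ⟨g', hg', u', hu', e', hux', -, e2', l, hl, e3, -⟩ :=
      hX'.dec hr hx' (mul_mem hgn hgn) (hX.W_sq hr hx ha)
    rw [e']
    exact h.mem_Q_of_sq hr hX' hx' hg' hu' hux' e2'
      (e3 ▸ h.lemG hr hX hX' hd hg hgW g1 hl (e3 ▸ hX'.sq hr hg'))
  have hWQ := h.star1 hr hX' hX (Ne.symm hne) hR.symm ha haQ g1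
  have hQn : Qs X' ≤ normalizer X := fun k hk => h.nz_of_comm hX ha g1
    (cm_one_iff.1 (h.lemG hr hX hX' hd hg hgW g1 hk (hX'.cm hk haQ)))
  have hQW : Qs X' ≤ 𝐂(Ws X) := fun k hk => mem_cent.2 fun w hw => (cm_one_iff.1 (h.W_disj hX hX' hne
    ((Ws X).mul_mem (W_conj (hQn hk) hw) ((Ws X).inv_mem hw)) (hX'.cm hk (hWQ hw)))).symm
  have hC : Qs X' ⊓ 𝐂[x] = Ws X := le_antisymm (fun k hk => h.inv_mem_W hr hX hx (hQn hk.1) (mem_cent1.1 hk.2) (by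
      by_contra k1
      exact hne (h.claim hX hX' hx (h.mem_of_fix hX' (hX'.sq hr hk.1) k1 (hX.sub hx)
        (mem_cent1.1 (mul_mem hk.2 hk.2)).symm) ha g1 (mul_mem hgn hgn))))
    (le_inf hWQ fun w hw => mem_cent1.2 (W_pt hw hx).symm)
  have hC' : Qs X ⊓ 𝐂[x] = Ws X := le_antisymm (fun k hk => hX.QC hk.1 hx (mem_cent1.1 hk.2))
    (le_inf W_le_Q fun w hw => mem_cent1.2 (W_pt hw hx).symm)
  have htr : {y | ∃ g ∈ Qs X', g * x * g⁻¹ = y} = {y | ∃ g ∈ Qs X, g * x * g⁻¹ = y} := by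
    refine Set.eq_of_subset_of_ncard_le (by rintro _ ⟨k, hk, rfl⟩; exact hX.tr hx (nz_conj (hQn hk) hx)) ?_
    have h1 := card_orb (Qs X') x
    have h2 := card_orb (Qs X) x
    rw [hC, ← h.card_Q hX hX', ← h2, hC'] at h1
    exact (Nat.eq_of_mul_eq_mul_right Nat.card_pos h1).ge
  have hZ : ∀ d ∈ Qs X, d ∈ Qs X' → ∀ l ∈ Qs X, ⁅l, d⁆ = 1 := fun d hd1 hd2 l hl => by
    obtain ⟨k, hk, e⟩ := htr.ge ⟨l, hl, rfl⟩
    have hkd : ⁅k, d⁆ = 1 := hd _ (hX'.cm hk hd2) ((Qs X).mul_mem (Q_conj (hQn hk) hd1) ((Qs X).inv_mem hd1))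
    have hυ : l⁻¹ * k * x = x * (l⁻¹ * k) := by
      calc l⁻¹ * k * x = l⁻¹ * (k * x * k⁻¹) * k := by group
        _ = _ := by rw [e]; group
    have := hX.cent_of_fix hx hd1 hυ (mul_mem (inv_mem (hX.Q_cW hl)) (hQW hk))
      (hX.fix_of_comm hx hl hυ hd1 (by rw [mul_inv_cancel_left, hkd]; exact one_mem _))
    rw [mul_assoc, cm_one_iff.1 hkd, ← mul_assoc, ← mul_assoc] at this
    exact cm_one_iff.2 (Commute.inv_left_iff.1 (mul_right_cancel this)).eq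
  obtain ⟨γ, hγ, υ, -, hυ, ek⟩ := hX.nz_dec hx (hQn hk)
  have hkγ : ⁅k, γ⁆ ∈ Qs X := (Qs X).mul_mem (Q_conj (hQn hk) hγ) ((Qs X).inv_mem hγ)
  obtain ⟨w, hw, e4⟩ := hX.eqv (mul_mem hkγ (mul_mem hγ hγ)) hg hx (by
    have e5 : k * x * k⁻¹ = γ * x * γ⁻¹ := by rw [ek, mul_assoc γ, hυ]; group
    have e6 : k * k * x * (k * k)⁻¹ = g * x * g⁻¹ := by rw [e, mul_assoc g, hux]; group
    calc _ = k * γ * k⁻¹ * (γ * x * γ⁻¹) * k * γ⁻¹ * k⁻¹ := by rw [cm_def]; group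
      _ = k * γ * k⁻¹ * (k * x * k⁻¹) * k * γ⁻¹ * k⁻¹ := by rw [e5]
      _ = k * (γ * x * γ⁻¹) * k⁻¹ := by group
      _ = _ := by rw [← e5, ← e6]; group)
  refine g1 (hX.formF hr hx (hQn hk) (hQW hk) hγ (mul_mem (hX.sq hr hγ) hw) (by rw [e4, mul_assoc]) (hZ _ ?_ ?_))
  · simpa using (Qs X).mul_mem (Q_conj (inv_mem (hQn hk)) hg) ((Qs X).inv_mem hg)
  · simpa [mul_assoc] using (Qs X').mul_mem (inv_mem hk) (Q_conj hgn hk)

theorem W_le_of_rl (hR : Rl X X') : Ws X' ≤ Qs X := by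
  by_cases hne : X = X'
  · exact hne ▸ W_le_Q
  by_contra H
  exact h.star2 hr hX hX' hne hR fun b hb hQ => by
    by_contra b1; exact H (h.star1 hr hX hX' hne hR hb hQ b1)

theorem rl_trans (hX'' : Pl p r D X'') (h1 : Rl X X') (h2 : Rl X X'') : Rl X' X'' := by
  by_cases hne : X = X'
  · exact hne ▸ h2
  obtain ⟨b, hb, hb1⟩ := exists_ne_one hX'.ne
  have q1 := h.W_le_of_rl hr hX hX' h1
  have q2 := h.W_le_of_rl hr hX hX'' h2
  by_contra H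
  let f : Ws X'' → Ws X := fun c => ⟨⁅(c : G), b⁆, hX.cm (q2 c.2) (q1 hb)⟩
  have hf : Function.Injective f := fun c d e => by
    by_contra hcd
    have e' : ⁅(c : G), b⁆ = ⁅(d : G), b⁆ := congrArg Subtype.val e
    refine H (h.rl_of hr hX'' hX' (mul_mem c.2 (inv_mem d.2)) (fun e => hcd (Subtype.ext (mul_inv_eq_one.1 e)))
      (h.nz_of_comm hX' hb hb1 (cm_one_iff.1 ?_))).symm
    rw [hX.cm_mul_left (q2 c.2) (inv_mem (q2 d.2)) (q1 hb), hX.cm_inv_left (q2 d.2) (q1 hb), e', mul_inv_cancel]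
  obtain ⟨x, hx⟩ := hX.nonempty
  obtain ⟨z, hz⟩ := hX'.nonempty
  obtain ⟨l, hl, w, hw, e⟩ := hX.L3 hx (q1 hb)
  obtain ⟨c, ec⟩ := (hf.bijective_of_nat_card_le (h.card_W hX hX'').le).2 ⟨w⁻¹, inv_mem hw⟩
  replace ec : ⁅(c : G), b⁆ = w⁻¹ := congrArg Subtype.val ec
  have e1 : (c : G) * b * (c : G)⁻¹ = l * x * l⁻¹ * x⁻¹ := by
    calc _ = ⁅(c : G), b⁆ * b := by rw [cm_def]; group
      _ = _ := by rw [ec, e, W_Q hw (hX.cm_pt hx hl), cm_def]; group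
  have e2 := h.latin (hX.sub (hX.act hl hx)) (hX.sub hx) (h.conj' (h.conj z (hX'.sub hz) c) x) (by
    calc _ = (l * x * l⁻¹ * x⁻¹) * (c * z * (c : G)⁻¹) * (l * x * l⁻¹ * x⁻¹)⁻¹ := by group
      _ = c * (b * z * b⁻¹) * (c : G)⁻¹ := by rw [← e1]; group
      _ = _ := by rw [cz_conj hb.2 hz]; group)
  rw [e2, mul_inv_cancel] at e1
  exact hb1 (by simpa using e1)

end Mn

theorem Mn.two (h : Mn p r D) (hr : r = 2) : False := by
  obtain ⟨x, hx⟩ := h.nonempty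
  obtain ⟨X, hX, hxX, -⟩ := h.pair_pl hx hx
  let E : Set G → Subgroup G := fun X => closure {w | ∃ X', Pl p r D X' ∧ Rl X X' ∧ w ∈ Ws X'}
  have h1 : ∀ X', Pl p r D X' → Rl X X' → E X = E X' := fun X' hX' hR => by
    refine congrArg Subgroup.closure (Set.ext fun w => exists_congr fun Z => and_congr_right fun hZ => and_congr_left fun _ =>
      ⟨h.rl_trans hr hX hX' hZ hR, h.rl_trans hr hX' hX hZ hR.symm⟩)
  have h2 : ∀ X', normalizer X' ≤ 𝐍(E X') := fun X' g hg => mem_norm_of_conj_le (by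
    rw [Transfer.conj_le_iff_le_inv_conj]
    refine (closure_le _).2 ?_
    rintro w ⟨Z, hZ, hR, hw⟩
    refine Transfer.mem_conj.2 (subset_closure ⟨cj g Z, hZ.cj' g, fun a ha b hb => ?_, ?_⟩)
    · rw [Ws_cj, Transfer.mem_conj] at hb
      have := hR _ (W_conj (inv_mem hg) ha) _ hb
      calc a * b = g * (g⁻¹ * a * g⁻¹⁻¹ * (g⁻¹ * b * g)) * g⁻¹ := by group
        _ = _ := by rw [this]; group
    · rw [Ws_cj, inv_inv]; exact Transfer.conj_mem_conj.2 hw)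
  have h3 : E X ≤ Qs X := (closure_le _).2 (by rintro w ⟨Z, hZ, hR, hw⟩; exact h.W_le_of_rl hr hX hZ hR hw)
  have h4 : (E X).Normal := normalizer_eq_top_iff.1 (eq_top_iff.2 (h.gen ▸ (closure_le _).2 fun z hz => by
    obtain ⟨w, hw, hw1⟩ := exists_ne_one hX.ne
    have w2 := hX.W_sq hr hxX hw
    obtain ⟨Y, hY, hzY, hn⟩ := h.inv_gd w2 hz
    obtain ⟨X', hX', hs, hn'⟩ := h.exists_pl hY hzY (hr ▸ pg_inv w2) (zpowers_le.2 hn)
    rw [h1 X' hX' (h.rl_of hr hX hX' hw hw1 (hn' (mem_zpowers w)))]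
    exact h2 X' (hX'.nz (hs hzY))))
  exact hX.ne (eq_bot_mono (h.nr _ h4 (pgroup_of_le hX.pg h3)) fun w hw => subset_closure ⟨X, hX, Rl.refl X, hw⟩)

end Cfsg.Lib.FS
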