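import Cfsg.Agent.Lib.FS.Two
import Cfsg.Agent.Lib.ZStar.Main

/-!
# The case `r` odd: fixed points of involutions
-/

set_option autoImplicit false
set_option linter.unusedSectionVars false

namespace Cfsg.Lib.FS

open Subgroup Cfsg.Lib.BG
open scoped Cfsg.Lib.Transfer commutatorElement

variable {G : Type*} [Group G] [Finite G]
variable {p r : ℕ} {D X Y Z X' X₀ X₁ X₂ : Set G} {x y z g a b c k u w t s : G} {R S E M : Subgroup G}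

theorem conj_conj_inv (t2 : t * t = 1) (y : G) : t * (t * y * t⁻¹) * t⁻¹ = y := by
  calc _ = t * t * y * (t * t)⁻¹ := by group
    _ = y := by rw [t2]; group

theorem exists_inv_of_pg (hR : IsPGroup 2 R) (h1 : R ≠ ⊥) : ∃ s ∈ R, s ≠ 1 ∧ s * s = 1 := by
  obtain ⟨s, hs⟩ := exists_prime_orderOf_dvd_card' 2 (pgroup_dvd_card hR h1)
  refine ⟨s, s.2, fun e => ?_, ?_⟩
  · rw [show s = 1 from Subtype.ext e, orderOf_one] at hs; omega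
  · have := pow_orderOf_eq_one s
    rw [hs, pow_two] at this
    exact congrArg Subtype.val this

theorem exists_inv_comm (hE : IsPGroup 2 E) (hn : E ≤ 𝐍(M)) (h2 : 2 ∣ Nat.card M) :
    ∃ s ∈ M, s ≠ 1 ∧ s * s = 1 ∧ s ∈ 𝐂(E) := by
  obtain ⟨P, hP, hle⟩ := Syl.exists_ge hE (le_sup_right : E ≤ M ⊔ E)
  have h1 : Syl 2 (P ⊓ M) M := hP.inf_nml ⟨le_sup_left, sup_le_norm_left hn⟩
  obtain ⟨s, hs, s1, s2⟩ := exists_inv_of_pg (pgroup_of_le hP.pgroup (inf_le_left.trans inf_le_left))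
    (nil_meet_center hP.nil inf_le_left (norm_inf (le_norm P) (hP.le.trans (sup_le_norm_left hn))) (h1.ne_bot' h2))
  exact ⟨s, hs.1.2, s1, s2, cent_anti hle hs.2⟩

theorem two_dvd_card (hs : s ∈ M) (s1 : s ≠ 1) (s2 : s * s = 1) : 2 ∣ Nat.card M :=
  (orderOf_eq_prime (by rw [pow_two, s2]) s1 : orderOf s = 2) ▸ M.orderOf_dvd_natCard hs

namespace Gd

variable (h : Gd p r D Y)
include h

theorem mid (hr : r ≠ 2) (ht : t ∈ normalizer Y) (t2 : t * t = 1) (hy : y ∈ Y) :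
    ∃ x ∈ Y, x * t = t * x ∧ ∃ g ∈ Qs Y, g * x * g⁻¹ = y ∧ t * g * t⁻¹ * g ∈ Ws Y := by
  have hy' := nz_conj ht hy
  obtain ⟨k, hk, e⟩ := h.tr hy' hy
  have hw : t * k * t⁻¹ * k ∈ Ws Y := h.QC (mul_mem (Q_conj ht hk) hk) hy' (by
    rw [← mul_inv_eq_iff_eq_mul]
    calc _ = t * k * t⁻¹ * (k * (t * y * t⁻¹) * k⁻¹) * t * k⁻¹ * t⁻¹ := by group
      _ = t * (k * (t * (t * t)⁻¹ * y * (t * (t * t)⁻¹)⁻¹) * k⁻¹) * t⁻¹ := by rw [e]; group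
      _ = _ := by rw [t2, inv_one, mul_one, e])
  obtain ⟨n, hn⟩ := h.pow_one hk
  obtain ⟨m, hm⟩ : Odd (r ^ n) := (h.hy.rp.odd_of_ne_two hr).pow
  have hg := pow_mem hk (m + 1)
  have g2 : k ^ (m + 1) * k ^ (m + 1) = k := by
    rw [← pow_add, show m + 1 + (m + 1) = 2 * m + 1 + 1 by ring, pow_succ, ← hm, hn, one_mul]
  have hw' : t * k ^ (m + 1) * t⁻¹ * k ^ (m + 1) ∈ Ws Y := by
    have c : Commute (t * k * t⁻¹) k := by
      have : Commute k (t * k * t⁻¹ * k) := W_Q hw hk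
      simpa using (this.mul_right (Commute.refl k).inv_right).symm
    rw [← conj_pow, ← c.mul_pow]; exact pow_mem hw _
  set g := k ^ (m + 1)
  have e2 : g * (g * (t * y * t⁻¹) * g⁻¹) * g⁻¹ = y := by
    calc _ = g * g * (t * y * t⁻¹) * (g * g)⁻¹ := by group
      _ = y := by rw [g2, e]
  refine ⟨_, h.act hg hy', ?_, g, hg, e2, hw'⟩
  rw [eq_comm, ← mul_inv_eq_iff_eq_mul]
  calc _ = t * g * t⁻¹ * (t * (t * y * t⁻¹) * t⁻¹) * (t * g * t⁻¹)⁻¹ := by group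
    _ = t * g * t⁻¹ * g * (g * (t * y * t⁻¹) * g⁻¹) * (t * g * t⁻¹ * g)⁻¹ := by
      rw [conj_conj_inv t2]; nth_rewrite 1 [← e2]; group
    _ = _ := h.W_act hw' (h.act hg hy')

theorem inv_act (hx : x ∈ Y) (hxt : x * t = t * x) (hg : g ∈ Qs Y) (hw : t * g * t⁻¹ * g ∈ Ws Y) :
    t * (g * x * g⁻¹) * t⁻¹ = g⁻¹ * x * g := by
  rw [← h.W_act hw (h.act' hg hx)]
  calc _ = t * g * t⁻¹ * (t * x * t⁻¹) * (t * g * t⁻¹)⁻¹ := by group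
    _ = _ := by rw [← hxt]; group

theorem cm_inv_act (ht : t ∈ normalizer Y) (hg : g ∈ Qs Y) (hw : t * g * t⁻¹ * g ∈ Ws Y) (hk : k ∈ Qs Y) :
    ⁅t * g * t⁻¹, k⁆ = ⁅g, k⁆⁻¹ := by
  rw [eq_inv_iff_mul_eq_one, ← h.cm_mul_left (Q_conj ht hg) hg hk, h.cm_W_left hw hk]

/-- Commuting involutions with the same fixed points act in the same way. -/
theorem same_act (hr : r ≠ 2) (ha : a ∈ normalizer Y) (hb : b ∈ normalizer Y) (a2 : a * a = 1) (b2 : b * b = 1)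
    (hc : a * b = b * a) (H : ∀ y ∈ Y, y * a = a * y ↔ y * b = b * y) : a * b ∈ centralizer Y := by
  refine mem_cz.2 fun y hy => ?_
  obtain ⟨x, hx, hxa, g, hg, rfl, hw⟩ := h.mid hr ha a2 hy
  have hxb := (H x hx).1 hxa
  have hg' := Q_conj hb hg
  have hk := mul_mem hg' hg
  have f1 : b * (b * g * b⁻¹ * g) * b⁻¹ = g * (b * g * b⁻¹) := by
    rw [show b * (b * g * b⁻¹ * g) * b⁻¹ = b * (b * g * b⁻¹) * b⁻¹ * (b * g * b⁻¹) by group, conj_conj_inv b2]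
  have f2 := (H _ (h.act hk hx)).2 (h.fix_of_comm hx (one_mem _) hxb.symm hk (by
    rw [one_mul, cm_def, f1, show g * (b * g * b⁻¹) * (b * g * b⁻¹ * g)⁻¹ = ⁅g, b * g * b⁻¹⁆ by rw [cm_def]; group]
    exact h.cm hg hg')).symm
  obtain ⟨w, hw1, f3⟩ := h.eqv hk (Q_conj ha hk) hx (by
    calc _ = a * (b * g * b⁻¹ * g * x * (b * g * b⁻¹ * g)⁻¹) * a⁻¹ := by rw [← f2]; group
      _ = a * (b * g * b⁻¹ * g) * a⁻¹ * (a * x * a⁻¹) * (a * (b * g * b⁻¹ * g) * a⁻¹)⁻¹ := by group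
      _ = _ := by rw [← hxa]; group)
  have hw2 : b * g * b⁻¹ * g ∈ Ws Y := by
    refine h.odd_sq_W hr hk ?_
    have f4 : a * (b * g * b⁻¹) * a⁻¹ = b * (a * g * a⁻¹) * b⁻¹ := by
      calc _ = a * b * g * (a * b)⁻¹ := by group
        _ = _ := by rw [hc]; group
    have f5 := W_conj hb hw
    have f6 := W_Q hw1 hk
    have := mul_mem (mul_mem (mul_mem (inv_mem hw1) f5) (h.cm (inv_mem hg') (Q_conj ha hg))) hw
    convert this using 1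
    calc _ = w⁻¹ * (w * (b * g * b⁻¹ * g)) * (b * g * b⁻¹ * g) := by group
      _ = w⁻¹ * (a * (b * g * b⁻¹) * a⁻¹) * (a * g * a⁻¹) * (b * g * b⁻¹ * g) := by rw [← f6, ← f3]; group
      _ = _ := by rw [f4, cm_def]; group
  have e1 := h.inv_act hx hxa hg hw
  have e2 := h.inv_act hx hxb hg hw2
  rw [eq_comm, ← mul_inv_eq_iff_eq_mul]
  calc _ = a * (b * (g * x * g⁻¹) * b⁻¹) * a⁻¹ := by group
    _ = _ := by rw [e2, ← e1, conj_conj_inv a2]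

end Gd

namespace Mn

variable (h : Mn p r D)
include h

theorem inv_mem_normal {N : Subgroup G} (hN : N.Normal) (h1 : N ≠ ⊥) (t2 : t * t = 1) : t ∈ N := by
  obtain ⟨x, hx⟩ := h.nonempty
  have : ⊤ ≤ N ⊔ zpowers x := h.gen ▸ (closure_le _).2 fun y hy => by
    have := mul_mem (mem_sup_right (S := N) (mem_zpowers x)) (mem_sup_left (h.Q_le_normal hN h1 (mem_Qs hx hy)))
    simpa using this
  obtain ⟨n, hn, _, ⟨i, rfl⟩, e⟩ := (mem_sup_left_norm (by rw [normalizer_eq_top_iff.2 hN]; exact le_top)).1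
    (this (mem_top t))
  refine (QuotientGroup.eq_one_iff t).1 (eq_one_of_sq_of_odd (h.pp.odd_of_ne_two h.p2) ?_ ?_)
  · rw [← e, QuotientGroup.mk_mul, (QuotientGroup.eq_one_iff n).2 hn, one_mul, ← QuotientGroup.mk_pow]
    change (((x ^ i) ^ p : G) : G ⧸ N) = 1
    rw [← zpow_natCast, ← zpow_mul, mul_comm, zpow_mul, zpow_natCast, h.pow_p hx, one_zpow, QuotientGroup.mk_one]
  · rw [← QuotientGroup.mk_mul, t2, QuotientGroup.mk_one]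

variable (hr : r ≠ 2)
include hr

theorem mid' (t2 : t * t = 1) (hy : y ∈ D) : ∃ x ∈ D ∩ 𝐂[t], ∀ Z, Gd p r D Z → x ∈ Z → y ∈ Z →
    ∀ g ∈ Qs Z, g * x * g⁻¹ = y → t * y * t⁻¹ = g⁻¹ * x * g := by
  obtain ⟨Y, hY, hyY, hn⟩ := h.inv_gd t2 hy
  obtain ⟨x, hx, hxt, g, hg, e, hw⟩ := hY.mid hr hn t2 hyY
  refine ⟨x, ⟨hY.sub hx, mem_cent1.2 hxt⟩, fun Z hZ h1 h2 g' hg' e' => ?_⟩
  obtain ⟨k, hk, ek⟩ := (hY.inter' hZ.toCl).tr ⟨hx, h1⟩ ⟨hyY, h2⟩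
  obtain ⟨w₁, a1, b1⟩ := hY.eqv (Qs_mono Set.inter_subset_left hk) hg hx (ek.trans e.symm)
  obtain ⟨w₂, a2, b2⟩ := hZ.eqv (Qs_mono Set.inter_subset_right hk) hg' h1 (ek.trans e'.symm)
  have f1 := hY.W_act (inv_mem a1) (hY.act' (Qs_mono Set.inter_subset_left hk) hx)
  have f2 := hZ.W_act (inv_mem a2) (hZ.act' (Qs_mono Set.inter_subset_right hk) h1)
  rw [← e, hY.inv_act hx hxt hg hw, b1, b2]
  calc _ = w₁⁻¹ * (k⁻¹ * x * k) * w₁⁻¹⁻¹ := by group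
    _ = w₂⁻¹ * (k⁻¹ * x * k) * w₂⁻¹⁻¹ := by rw [f1, f2]
    _ = _ := by group

theorem two_fix (t1 : t ≠ 1) (t2 : t * t = 1) : ¬ (D ∩ 𝐂[t]).Subsingleton := by
  intro H
  have hiso : IsIsolatedInvolution t := ⟨orderOf_eq_prime (by rw [pow_two, t2]) t1, fun g hc => ?_⟩
  · have hO : oddCore G = ⊥ := by
      by_contra hO
      exact (Nat.not_even_iff_odd.2 (Core.odd_card_oddCore G)) (even_iff_two_dvd.2
        (two_dvd_card (h.inv_mem_normal inferInstance hO t2) t1 t2))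
    refine t1 (h.central fun y _ => (cm_one_iff.1 ?_).symm)
    exact mem_bot.1 (hO ▸ ZStar.zstar hiso y)
  have s2 : g * t * g⁻¹ * (g * t * g⁻¹) = 1 := by
    calc _ = g * (t * t) * g⁻¹ := by group
      _ = 1 := by rw [t2]; group
  set s := g * t * g⁻¹ with hs
  have H' : (D ∩ 𝐂[s]).Subsingleton := fun a ha b hb => by
    have key : ∀ a ∈ D ∩ 𝐂[s], g⁻¹ * a * g ∈ D ∩ 𝐂[t] := fun a ha =>
      ⟨h.conj' ha.1 g, Transfer.mem_conj.1 (by rw [conj_cent1]; exact ha.2)⟩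
    simpa using H (key a ha) (key b hb)
  refine (inv_mul_eq_one.1 (h.central fun y hy => ?_)).symm
  obtain ⟨x, hx, e⟩ := h.mid' hr t2 hy
  obtain ⟨x', hx', e'⟩ := h.mid' hr s2 hy
  have hxs : x ∈ D ∩ 𝐂[s] := ⟨hx.1, mem_cent1.2 (mul_inv_eq_iff_eq_mul.1 (H ⟨h.conj x hx.1 s,
    conj_mem_of_norm (le_norm _ (mem_cent1.2 hc.eq.symm)) hx.2⟩ hx)).symm⟩
  obtain rfl := H' hxs hx'
  obtain ⟨Z, hZ, h1, h2⟩ := h.pair_gd hx.1 hy
  obtain ⟨k, hk, ek⟩ := hZ.tr h1 h2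
  have := (e Z hZ h1 h2 k hk ek).trans (e' Z hZ h1 h2 k hk ek).symm
  calc y * (t⁻¹ * s) = t⁻¹ * (t * y * t⁻¹) * s := by group
    _ = _ := by rw [this]; group

theorem nz_of_fix (t2 : t * t = 1) (hX : Gd p r D X) (hs : D ∩ 𝐂[t] ⊆ X) : t ∈ normalizer X :=
  mem_nz fun y hy => by
    obtain ⟨x, hx, e⟩ := h.mid' hr t2 (hX.sub hy)
    obtain ⟨g, hg, eg⟩ := hX.tr (hs hx) hy
    rw [e X hX (hs hx) hy g hg eg]
    exact hX.act' hg (hs hx)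

theorem main_uniq (t1 : t ≠ 1) (t2 : t * t = 1) (h1 : Pl p r D X₁) (h2 : Pl p r D X₂) (s1 : D ∩ 𝐂[t] ⊆ X₁)
    (s2 : D ∩ 𝐂[t] ⊆ X₂) : X₁ = X₂ := by
  by_contra hne
  obtain ⟨x₀, hx₀, y₀, hy₀, hxy⟩ := Set.not_subsingleton_iff.1 (h.two_fix hr t1 t2)
  have n1 := h.nz_of_fix hr t2 h1.toGd s1
  have n2 := h.nz_of_fix hr t2 h2.toGd s2
  have htW : t ∈ 𝐂(Ws X₁) := mem_cent.2 fun w hw => by
    have := h.nz_of_fix hr t2 (h2.toGd.cj' w) fun y hy => by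
      rw [← cz_conj hw.2 (s1 hy)]; exact conj_mem_cj.2 (s2 hy)
    rw [nz_cj, Transfer.mem_conj] at this
    by_contra hc
    refine hne (h.claim h1 h2 (s1 hx₀) (s2 hx₀) (mul_mem (inv_mem hw) (W_conj n1 hw)) (fun e => hc ?_)
      (by simpa [mul_assoc] using mul_mem this (inv_mem n2)))
    rw [inv_mul_eq_one] at e
    exact (mul_inv_eq_iff_eq_mul.1 e.symm).symm
  have hF := h.gd_cent t1
  refine hne (h1.eq_of_sub h2.toGd fun y hy => ?_)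
  obtain ⟨x, hx, hxt, g, hg, rfl, hw⟩ := h1.mid hr n1 t2 hy
  have hxF : x ∈ D ∩ 𝐂[t] := ⟨h1.sub hx, mem_cent1.2 hxt⟩
  have hgC : g ∈ 𝐂(Qs (D ∩ 𝐂[t])) := mem_cent.2 fun k hk => by
    have hk1 := Qs_mono s1 hk
    have := h1.cm_act htW hg hk1
    rw [← mem_cent1.1 (Qs_le_of_subset Set.inter_subset_right hk), mul_inv_cancel_right,
      h1.cm_inv_act n1 hg hw hk1, inv_eq_iff_mul_eq_one] at this
    exact (cm_one_iff.1 (h1.odd_sq hr (h1.cm hg hk1).1 this)).symm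
  have hx' := nz_le_nQ (hF.nz hxF)
  exact h.perp h2 (s2 hxF) (Qs_mono s2) (ne_bot_of_mem (mem_Qs hx₀ hy₀) fun e => hxy (inv_mul_eq_one.1 e)) hx'
    ⟨h1.sub hy, conj_mem_of_norm (le_norm _ (cent_le_norm _ hgC)) hx'⟩

theorem exists_main (t1 : t ≠ 1) (t2 : t * t = 1) : ∃ X, Pl p r D X ∧ D ∩ 𝐂[t] ⊆ X := by
  obtain ⟨x, hx, -⟩ := Set.not_subsingleton_iff.1 (h.two_fix hr t1 t2)
  exact h.exists_pl' (h.gd_cent t1) hx

theorem nz_main (t1 : t ≠ 1) (t2 : t * t = 1) (hX : Pl p r D X) (hs : D ∩ 𝐂[t] ⊆ X) (hc : g * t = t * g) :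
    g ∈ normalizer X :=
  cj_eq_iff.1 (h.main_uniq hr t1 t2 (hX.cj' g) hX (by
    rw [← cj_eq_iff.2 (h.nz_sub (le_norm _ (mem_cent1.2 hc)))]; exact cj_mono g hs) hs)

theorem exists_inv_pl (t2 : t * t = 1) (hY : Gd p r D Y) (hy : y ∈ Y) (ht : t ∈ normalizer Y) :
    ∃ X, Pl p r D X ∧ Y ⊆ X ∧ t ∈ normalizer X := by
  haveI := Fact.mk h.rp
  have hn : zpowers t ≤ 𝐍(centralizer Y) := zpowers_le.2 (nz_le_nC ht)
  by_cases h2 : 2 ∣ Nat.card (centralizer Y)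
  · obtain ⟨s, hs, s1, s2, hc⟩ := exists_inv_comm (pg_inv t2) hn h2
    obtain ⟨X, hX, hsX⟩ := h.exists_main hr s1 s2
    exact ⟨X, hX, fun y hy => hsX ⟨hY.sub hy, mem_cent1.2 (mem_cz.1 hs y hy)⟩,
      h.nz_main hr s1 s2 hX hsX (mem_cent.1 hc t (mem_zpowers t))⟩
  obtain ⟨S, hS, hSn⟩ := Syl.exists_inv r hn ((PiGrp.p'_iff.2 h2).coprime_pgroup (pg_inv t2)).symm
    (Or.inl (pgroup_sol (pg_inv t2)))
  obtain ⟨X, hX, hs, hn'⟩ := h.exists_pl hY hy hS.pgroup (hS.le.trans cz_le_nz)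
  obtain ⟨w, hw, hw1⟩ := exists_ne_one hX.ne
  have hwS := hS.ge_of_norm_p (W_le_C.trans (cz_anti hs)) (pgroup_of_le hX.pg W_le_Q) (hn'.trans nz_le_nW) hw
  refine ⟨X, hX, hs, cj_eq_iff.1 (h.claim hX (hX.cj' t) (hs hy) (hs (nz_conj' ht hy)) hw hw1 ?_).symm⟩
  rw [nz_cj, Transfer.mem_conj]
  exact hn' (conj_mem_of_norm' (hSn (mem_zpowers t)) hwS)

theorem sec_W (t1 : t ≠ 1) (t2 : t * t = 1) (hX : Pl p r D X) (ht : t ∈ normalizer X) (hs : ¬ D ∩ 𝐂[t] ⊆ X)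
    (hw : w ∈ Ws X) (hc : w * t = t * w) : w = 1 := by
  by_contra w1
  obtain ⟨y, hy⟩ := hX.nonempty
  obtain ⟨x, hx, hxt, -⟩ := hX.mid hr ht t2 hy
  exact hs (h.FX hX hx t1 hxt hw w1 hc)

theorem sec_inv (t1 : t ≠ 1) (t2 : t * t = 1) (hX : Pl p r D X) (ht : t ∈ normalizer X) (hs : ¬ D ∩ 𝐂[t] ⊆ X)
    (hw : w ∈ Ws X) : t * w * t⁻¹ = w⁻¹ := by
  refine eq_inv_of_mul_eq_one_left (h.sec_W hr t1 t2 hX ht hs (mul_mem (W_conj ht hw) hw) ?_)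
  rw [eq_comm, ← mul_inv_eq_iff_eq_mul, ← W_Q (W_conj ht hw) hw.1]
  calc _ = t * w * t⁻¹ * (t * (t * w * t⁻¹) * t⁻¹) := by group
    _ = _ := by rw [conj_conj_inv t2, ← W_Q (W_conj ht hw) hw.1]

theorem sec_inter (t1 : t ≠ 1) (t2 : t * t = 1) (hX : Pl p r D X) (ht : t ∈ normalizer X) (h0 : Pl p r D X₀)
    (s0 : D ∩ 𝐂[t] ⊆ X₀) (hne : X ≠ X₀) (hy : y ∈ X) (hy0 : y ∈ X₀) : y * t = t * y := by
  by_contra hyt
  have hs : ¬ D ∩ 𝐂[t] ⊆ X := fun hs => hne (h.main_uniq hr t1 t2 hX h0 hs s0)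
  have hI := hX.inter' h0.toCl
  have htI := nz_inter ht (h.nz_of_fix hr t2 h0.toGd s0)
  have cI : ∀ a ∈ Qs (X ∩ X₀), ∀ b ∈ Qs (X ∩ X₀), a * b = b * a := fun a ha b hb =>
    cm_one_iff.1 (h.QI_comm hX h0 hne ha hb)
  let Q₀ : Subgroup G :=
    { carrier := {k | k ∈ Qs (X ∩ X₀) ∧ t * k * t⁻¹ = k⁻¹}
      one_mem' := ⟨one_mem _, by simp⟩
      mul_mem' := fun {a b} ha hb => ⟨mul_mem ha.1 hb.1, by
        rw [cI a ha.1 b hb.1, mul_inv_rev, ← ha.2, ← hb.2, ← cI a ha.1 b hb.1]; group⟩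
      inv_mem' := fun {a} ha => ⟨inv_mem ha.1, by rw [← conj_inv, ha.2]⟩ }
  have hn : ∀ x ∈ X ∩ X₀, x * t = t * x → x ∈ 𝐍(Q₀) := fun x hx hxt => mem_nz fun k hk =>
    ⟨hI.x_conj hx hk.1, by
      calc _ = t * x * k * (t * x)⁻¹ := by group
        _ = x * (t * k * t⁻¹) * x⁻¹ := by rw [← hxt]; group
        _ = _ := by rw [hk.2]; group⟩
  obtain ⟨x₀, hx₀, hxt₀, g₀, hg₀, e₀, hw₀⟩ := hI.mid hr htI t2 ⟨hy, hy0⟩
  have hg : g₀ ∈ Q₀ := ⟨hg₀, eq_inv_of_mul_eq_one_left (h.W_disj hX h0 hne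
    (hX.W_mono Set.inter_subset_left hx₀ hw₀) (h0.W_mono Set.inter_subset_right hx₀ hw₀))⟩
  have hP := h.perp h0 hx₀.2 (Q₀ := Q₀) (fun k hk => Qs_mono Set.inter_subset_right hk.1)
    (ne_bot_of_mem hg fun e => hyt (by rw [← e₀, e]; simpa using hxt₀)) (hn x₀ hx₀ hxt₀)
  refine hne (hX.eq_of_sub h0.toGd fun z hz => ?_)
  obtain ⟨x, hx, hxt, g, hg, rfl, hw⟩ := hX.mid hr ht t2 hz
  have hgC : g ∈ 𝐂(Q₀) := mem_cent.2 fun k hk => by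
    have hk1 := Qs_mono Set.inter_subset_left hk.1
    refine (cm_one_iff.1 (h.sec_W hr t1 t2 hX ht hs (hX.cm hg hk1) (mul_inv_eq_iff_eq_mul.1 ?_).symm)).symm
    rw [cm_conj, hk.2, hX.cm_inv_act ht hg hw (inv_mem hk1), hX.cm_inv_right hk1 hg, inv_inv]
  exact hP ⟨hX.sub hz, conj_mem_of_norm (le_norm _ (cent_le_norm _ hgC))
    (hn x ⟨hx, s0 ⟨hX.sub hx, mem_cent1.2 hxt⟩⟩ hxt)⟩

end Mn

end Cfsg.Lib.FS
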