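import Cfsg.Agent.Lib.FS.Red
import Cfsg.Agent.Lib.FS.Flat

/-!
# Planes: maximal good sets
-/

set_option autoImplicit false
set_option linter.unusedSectionVars false

namespace Cfsg.Lib.FS

open Subgroup Cfsg.Lib.BG
open scoped Cfsg.Lib.Transfer commutatorElement

variable {G : Type*} [Group G]

/-- A maximal `x`-invariant `r`-subgroup. -/
structure Mx (r : ℕ) (x : G) (R : Subgroup G) : Prop where
  pg : IsPGroup r R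
  nx : x ∈ 𝐍(R)
  max : ∀ S : Subgroup G, IsPGroup r S → x ∈ 𝐍(S) → R ≤ S → S ≤ R

/-- The points of `D` in the coset `x R`. -/
def Yr (D : Set G) (x : G) (R : Subgroup G) : Set G := {z | z ∈ D ∧ x⁻¹ * z ∈ R}

/-- A plane. -/
structure Pl (p r : ℕ) (D X : Set G) : Prop extends Gd p r D X where
  ne : Ws X ≠ ⊥
  max : ∀ Y, Gd p r D Y → X ⊆ Y → Y ⊆ X

variable {p r : ℕ} {D X Y Z : Set G} {x y z g a b c k u w t : G} {R S E M : Subgroup G}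

theorem mem_norm_inf (h1 : x ∈ 𝐍(R)) (h2 : x ∈ 𝐍(S)) : x ∈ 𝐍(R ⊓ S) :=
  norm_inf (zpowers_le.2 h1) (zpowers_le.2 h2) (mem_zpowers x)

theorem mem_norm_sup (h1 : x ∈ 𝐍(R)) (h2 : x ∈ 𝐍(S)) : x ∈ 𝐍(R ⊔ S) :=
  norm_sup (zpowers_le.2 h1) (zpowers_le.2 h2) (mem_zpowers x)

theorem mem_norm_norm (h1 : x ∈ 𝐍(R)) : x ∈ 𝐍(𝐍(R)) := le_norm _ h1

theorem exists_mx [Finite G] (hR : IsPGroup r R) (hx : x ∈ 𝐍(R)) : ∃ S, Mx r x S ∧ R ≤ S := by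
  obtain ⟨S, hle, hS⟩ := Finite.exists_le_maximal (p := fun S : Subgroup G => IsPGroup r S ∧ x ∈ 𝐍(S)) ⟨hR, hx⟩
  exact ⟨S, ⟨hS.1.1, hS.1.2, fun T h1 h2 h3 => hS.2 ⟨h1, h2⟩ h3⟩, hle⟩

theorem norm_conj_of_comm (hc : c * x = x * c) (hx : x ∈ 𝐍(R)) : x ∈ 𝐍(c ⋆ R) :=
  norm_of_conj_eq (by rw [Transfer.conj_conj, ← hc, ← Transfer.conj_conj, conj_eq_of_norm hx])

theorem comm_inv (hc : c * x = x * c) : c⁻¹ * x = x * c⁻¹ := (Commute.inv_left hc :)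

theorem Mx.conj (h : Mx r x R) (hc : c * x = x * c) : Mx r x (c ⋆ R) :=
  ⟨(pgroup_conj c).2 h.pg, norm_conj_of_comm hc h.nx, fun S h1 h2 h3 => by
    have := h.max (c⁻¹ ⋆ S) ((pgroup_conj _).2 h1) (norm_conj_of_comm (comm_inv hc) h2)
      (Transfer.conj_le_iff_le_inv_conj.1 h3)
    rwa [Transfer.conj_le_iff_le_inv_conj, inv_inv] at this⟩

theorem Yr_conj (h : Hy0 p r D) (hc : c * x = x * c) : Yr D x (c ⋆ R) = cj c (Yr D x R) := by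
  ext z
  have e : c⁻¹ * (x⁻¹ * z) * c = x⁻¹ * (c⁻¹ * z * c) := by
    rw [← mul_assoc, comm_inv (comm_inv hc.symm).symm]; group
  have e2 : z ∈ cj c D ↔ z ∈ D := by rw [h.cj_D]
  simp only [Yr, mem_cj, Set.mem_ofPred_eq, Transfer.mem_conj, e] at e2 ⊢
  rw [e2]

theorem Q_Yr : Qs (Yr D x R) ≤ R := Qs_le' x fun _ hb => hb.2

theorem mem_Yr (hx : x ∈ D) : x ∈ Yr D x R := ⟨hx, by simp⟩

theorem sub_Yr (hY : Cl D Y) (hx : x ∈ Y) (hle : Qs Y ≤ R) : Y ⊆ Yr D x R :=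
  fun _ hy => ⟨hY.sub hy, hle (mem_Qs hx hy)⟩

theorem Hy0.nz_Yr [Finite G] (h : Hy0 p r D) (hn : x ∈ 𝐍(R)) : R ≤ normalizer (Yr D x R) := fun g hg =>
  mem_nz fun z hz => ⟨h.conj z hz.1 g, by
    have := R.mul_mem (R.mul_mem (conj_mem_of_norm' hn hg) hz.2) (R.inv_mem hg)
    rwa [show x⁻¹ * g * x * (x⁻¹ * z) * g⁻¹ = x⁻¹ * (g * z * g⁻¹) by group] at this⟩

theorem Hy.gd_Yr [Finite G] (h : Hy p r D) (hR : IsPGroup r R) (hn : x ∈ 𝐍(R)) : Gd p r D (Yr D x R) :=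
  ⟨⟨fun _ hz => hz.1, fun a ha b hb => ⟨h.conj b hb.1 a, by
    have := R.mul_mem ha.2 (conj_mem_of_norm hn (R.mul_mem hb.2 (R.inv_mem ha.2)))
    rwa [show x⁻¹ * a * (x * (x⁻¹ * b * (x⁻¹ * a)⁻¹) * x⁻¹) = x⁻¹ * (a * b * a⁻¹) by group] at this⟩⟩,
    h, pgroup_of_le hR Q_Yr⟩

theorem Hy.pair_gd [Finite G] (h : Hy p r D) (hy : y ∈ D) (hz : z ∈ D) : ∃ Y, Gd p r D Y ∧ y ∈ Y ∧ z ∈ Y := by
  obtain ⟨R, hR, hn, hm⟩ := h.pair y hy z hz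
  exact ⟨_, h.gd_Yr hR hn, mem_Yr hy, hz, hm⟩

variable [Finite G]

theorem Gd.nx_of_le (h : Gd p r D Y) (hx : x ∈ Y) (h1 : S ≤ normalizer Y) (h2 : Qs Y ≤ S) : x ∈ 𝐍(S) :=
  mem_nz fun s hs => by
    have := S.mul_mem (S.inv_mem (h2 (h.cm_nz hx (h1 hs)))) hs
    rwa [show ⁅s, x⁆⁻¹ * s = x * s * x⁻¹ by rw [cm_def]; group] at this

theorem Gd.pg_sup (h : Gd p r D Y) (hE : IsPGroup r E) (hn : E ≤ normalizer Y) : IsPGroup r ↥(Qs Y ⊔ E) :=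
  pgroup_sup h.pg hE (hn.trans nz_le_nQ)

theorem Gd.nx_sup (h : Gd p r D Y) (hx : x ∈ Y) (hn : E ≤ normalizer Y) : x ∈ 𝐍(Qs Y ⊔ E) :=
  h.nx_of_le hx (sup_le h.Q_nz hn) le_sup_left

theorem Mx.Q_le (h : Mx r x R) (hY : Gd p r D Y) (hx : x ∈ Y) (hn : R ≤ normalizer Y) : Qs Y ≤ R :=
  le_sup_left.trans (h.max _ (hY.pg_sup h.pg hn) (hY.nx_sup hx hn) le_sup_right)

theorem Gd.W_mono (h : Gd p r D Y) (hs : X ⊆ Y) (hx : x ∈ X) : Ws X ≤ Ws Y :=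
  fun _ hw => h.QC (Qs_mono hs hw.1) (hs hx) (W_pt hw hx).symm

theorem Gd.S3 (h : Gd p r D Y) (hx : x ∈ Y) (hM : M ≤ normalizer Y) (hQ : Qs Y ≤ M) {J₁ J₂ : Subgroup G}
    (h1 : IsPGroup r J₁) (h2 : IsPGroup r J₂) (l1 : J₁ ≤ M) (l2 : J₂ ≤ M) :
    ∃ c ∈ M, c * x = x * c ∧ ∃ R, Mx r x R ∧ J₂ ≤ R ∧ c ⋆ J₁ ≤ R := by
  haveI := Fact.mk h.hy.rp
  obtain ⟨S, hS, hle⟩ := Syl.exists_ge h2 l2
  have hQS : Qs Y ≤ S := hS.ge_of_norm_p hQ h.pg ((hS.le.trans hM).trans nz_le_nQ)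
  obtain ⟨g, hg, hc⟩ := hS.exists_conj_le h1 l1
  obtain ⟨k, hk, c, -, hcx, rfl⟩ := h.nz_dec hx (hM hg)
  obtain ⟨R, hR, hSR⟩ := exists_mx hS.pgroup (h.nx_of_le hx (hS.le.trans hM) hQS)
  refine ⟨c, (M.mul_mem_cancel_left (hQ hk)).1 hg, hcx, R, hR, hle.trans hSR, le_trans ?_ hSR⟩
  rw [← Transfer.conj_conj, Transfer.conj_le_iff_le_inv_conj, conj_eq_of_mem (S.inv_mem (hQS hk))] at hc
  exact hc

theorem Pl.cj' (h : Pl p r D X) (g : G) : Pl p r D (cj g X) :=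
  ⟨h.toGd.cj' g, by rw [Ws_cj]; exact fun e => h.ne (Transfer.conj_eq_bot_iff.1 e), fun Y hY hs => by
    have := cj_mono g (h.max _ (hY.cj' g⁻¹) (by simpa [cj_inv_cj] using cj_mono g⁻¹ hs))
    rwa [cj_cj_inv] at this⟩

theorem Pl.nonempty (h : Pl p r D X) : X.Nonempty := by
  by_contra e
  exact h.ne (eq_bot_mono (Qs_subsingleton (Set.not_nonempty_iff_eq_empty.1 e ▸ Set.subsingleton_empty)) W_le_Q)

theorem Pl.eq_of_sub (h : Pl p r D X) (hY : Gd p r D Y) (hs : X ⊆ Y) : X = Y := hs.antisymm (h.max Y hY hs)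

namespace Mn

variable (h : Mn p r D)
include h

/-- The fixed points of a nontrivial element of `W` form the plane. -/
theorem F_eq (hX : Pl p r D X) (hw : w ∈ Ws X) (h1 : w ≠ 1) : D ∩ 𝐂[w] = X :=
  (hX.eq_of_sub (h.gd_cent h1) fun _ hy => ⟨hX.sub hy, mem_cent1.2 (W_pt hw hy)⟩).symm

theorem mem_of_fix (hX : Pl p r D X) (hw : w ∈ Ws X) (h1 : w ≠ 1) (hy : y ∈ D) (hc : y * w = w * y) : y ∈ X :=
  h.F_eq hX hw h1 ▸ ⟨hy, mem_cent1.2 hc⟩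

theorem nz_of_comm (hX : Pl p r D X) (hw : w ∈ Ws X) (h1 : w ≠ 1) (hc : g * w = w * g) : g ∈ normalizer X := by
  rw [← h.F_eq hX hw h1]
  exact h.nz_sub (le_norm _ (mem_cent1.2 hc))

theorem eq_of_W (hX : Pl p r D X) (hY : Pl p r D Y) (hw : w ∈ Ws X) (hw' : w ∈ Ws Y) (h1 : w ≠ 1) : X = Y :=
  (h.F_eq hX hw h1).symm.trans (h.F_eq hY hw' h1)

theorem W_disj (hX : Pl p r D X) (hY : Pl p r D Y) (hne : X ≠ Y) (hw : w ∈ Ws X) (hw' : w ∈ Ws Y) : w = 1 := by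
  by_contra h1; exact hne (h.eq_of_W hX hY hw hw' h1)

theorem pl_Yr' (hx : x ∈ D) (hR : Mx r x R) (hW : Ws (Yr D x R) ≠ ⊥) : Pl p r D (Yr D x R) := by
  have hX := h.gd_Yr hR.pg hR.nx
  refine ⟨hX, hW, fun Y hY hs => ?_⟩
  have hZ := h.gd (h.cl_sub 𝐂(Ws (Yr D x R))) fun e => hW (eq_bot_iff.2 fun w hw => mem_bot.2
    (h.central fun y hy => (mem_cent.1 (e.symm ▸ hy : y ∈ D ∩ 𝐂(Ws (Yr D x R))).2 w hw).symm))
  have hxZ : x ∈ D ∩ 𝐂(Ws (Yr D x R)) := ⟨hx, hX.pt_cW (mem_Yr hx)⟩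
  refine fun y hy => sub_Yr hZ.toCl hxZ (hR.Q_le hZ hxZ fun g hg => h.nz_sub ?_)
    ⟨hY.sub hy, cent_anti (hY.W_mono hs (mem_Yr hx)) (hY.pt_cW hy)⟩
  exact norm_cent ((h.nz_Yr hR.nx).trans nz_le_nW) hg

theorem exists_curved (hx : x ∈ D) : ∃ R, Mx r x R ∧ Ws (Yr D x R) ≠ ⊥ := by
  by_contra! H
  refine h.bad (h.flat hx fun y hy => ?_)
  obtain ⟨R, hR, hn, hm⟩ := h.pair x hx y hy
  obtain ⟨S, hS, hle⟩ := exists_mx hR hn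
  have hX := h.gd_Yr hS.pg hS.nx
  refine ⟨_, abelian_iff.2 (le_cent_iff.2 fun a ha b hb => cm_one_iff.1 ?_), nz_le_nQ (hX.nz (mem_Yr hx)),
    hX.tr (mem_Yr hx) ⟨hy, hle hm⟩⟩
  exact mem_bot.1 (H S hS ▸ hX.cm ha hb)

theorem curved (hx : x ∈ D) (hR : Mx r x R) : Ws (Yr D x R) ≠ ⊥ := by
  haveI := Fact.mk h.rp
  have hcj : ∀ {c : G} {R : Subgroup G}, c * x = x * c → (Ws (Yr D x (c ⋆ R)) = ⊥ ↔ Ws (Yr D x R) = ⊥) :=
    fun hc => by rw [Yr_conj h.toHy0 hc, Ws_cj, Transfer.conj_eq_bot_iff]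
  have key : ∀ J R₁ R₂ : Subgroup G, Mx r x R₁ → Mx r x R₂ → Ws (Yr D x R₁) = ⊥ → Ws (Yr D x R₂) ≠ ⊥ →
      R₁ ⊓ R₂ = J → J = ⊥ := by
    intro J
    induction J using WellFoundedGT.induction with
    | _ J ih =>
    intro R₁ R₂ h1 h2 f1 f2 e
    by_contra hJ
    have hne : R₁ ≠ R₂ := fun e => f2 (e ▸ f1)
    have l1 : J < R₁ := lt_of_le_of_ne (e ▸ inf_le_left) fun e' =>
      hne (le_antisymm (by rw [← e', ← e]; exact inf_le_right)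
        (h1.max _ h2.pg h2.nx (by rw [← e', ← e]; exact inf_le_right)))
    have l2 : J < R₂ := lt_of_le_of_ne (e ▸ inf_le_right) fun e' =>
      hne (le_antisymm (h2.max _ h1.pg h1.nx (by rw [← e', ← e]; exact inf_le_left))
        (by rw [← e', ← e]; exact inf_le_left))
    have hY := h.gd_norm (pgroup_of_le h1.pg l1.le) hJ
    obtain ⟨c, hc, hcx, R₃, h3, a2, a1⟩ := hY.S3 ⟨hx, e ▸ mem_norm_inf h1.nx h2.nx⟩
      (M := 𝐍(J)) (fun g hg => h.nz_sub (mem_norm_norm hg)) (Qs_le_of_subset Set.inter_subset_right)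
      (pgroup_of_le h1.pg inf_le_left) (pgroup_of_le h2.pg inf_le_left) inf_le_right inf_le_right
    by_cases f3 : Ws (Yr D x R₃) = ⊥
    · have lt := (nil_norm_grow (pgroup_nil h2.pg) l2).trans_le (le_inf a2 inf_le_left)
      exact lt.ne_bot (ih _ lt _ _ h3 h2 f3 f2 rfl)
    · have lt := (nil_norm_grow (pgroup_nil h1.pg) l1).trans_le
        (le_inf inf_le_left (Transfer.conj_le_iff_le_inv_conj.1 a1))
      exact lt.ne_bot (ih _ lt _ _ h1 (h3.conj (comm_inv hcx)) f1 (mt (hcj (comm_inv hcx)).1 f3) rfl)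
  intro f1
  obtain ⟨R₂, h2, f2⟩ := h.exists_curved hx
  have hU : R ⊓ 𝐂[x] = ⊥ := by
    obtain ⟨c, hc, hcx, R₃, h3, a2, a1⟩ := (h.gd_one hx).S3 rfl (M := 𝐂[x]) cz_le_nz
      (by rw [Qs_subsingleton Set.subsingleton_singleton]; exact bot_le)
      (pgroup_of_le hR.pg inf_le_left) (pgroup_of_le h2.pg (W_le_Q.trans Q_Yr)) inf_le_right
      (fun w hw => mem_cent1.2 (W_pt hw (mem_Yr hx)).symm)
    by_cases f3 : Ws (Yr D x R₃) = ⊥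
    · exact absurd (eq_bot_mono (key _ _ _ h3 h2 f3 f2 rfl) (le_inf a2 (W_le_Q.trans Q_Yr))) f2
    · exact eq_bot_mono (key _ _ _ hR (h3.conj (comm_inv hcx)) f1 (mt (hcj (comm_inv hcx)).1 f3) rfl)
        (le_inf inf_le_left (Transfer.conj_le_iff_le_inv_conj.1 a1))
  have hX := h.gd_Yr hR.pg hR.nx
  have hRQ : R ≤ Qs (Yr D x R) := fun g hg => by
    obtain ⟨k, hk, u, -, hux, rfl⟩ := hX.nz_dec (mem_Yr hx) (h.nz_Yr hR.nx hg)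
    have : u ∈ R ⊓ 𝐂[x] := ⟨(R.mul_mem_cancel_left (Q_Yr hk)).1 hg, mem_cent1.2 hux⟩
    rw [hU, mem_bot] at this
    rwa [this, mul_one]
  have hR1 : R ≠ ⊥ := fun e => f2 (eq_bot_mono e ((W_le_Q.trans Q_Yr).trans
    (hR.max _ h2.pg h2.nx (e ▸ bot_le))))
  have hY := h.gd_norm hR.pg hR1
  have hxY : x ∈ D ∩ 𝐍(R) := ⟨hx, hR.nx⟩
  have hn : 𝐍(R) ≤ normalizer (D ∩ 𝐍(R)) := fun g hg => h.nz_sub (mem_norm_norm hg)
  have hS : Syl r R ⊤ := Syl.of_norm (Syl.of_max (le_inf le_top (le_norm R)) hR.pg fun S hS l1 l2 =>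
    hR.max S hS (hY.nx_of_le hxY ((l2.trans inf_le_right).trans hn)
      ((hR.Q_le hY hxY ((le_norm R).trans hn)).trans l1)) l1)
  have hX2 := h.gd_Yr h2.pg h2.nx
  obtain ⟨g, -, hg⟩ := hS.exists_conj_le hX2.pg le_top
  refine f2 (eq_bot_mono (abelian_iff_der.1 ?_) (hX2.W_le_der (mem_Yr hx)))
  refine (abelian_conj g).1 (abelian_of_le (abelian_iff.2 (le_cent_iff.2 fun a ha b hb => cm_one_iff.1 ?_))
    (hg.trans hRQ))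
  exact mem_bot.1 (f1 ▸ hX.cm ha hb)

theorem pl_Yr (hx : x ∈ D) (hR : Mx r x R) : Pl p r D (Yr D x R) := h.pl_Yr' hx hR (h.curved hx hR)

theorem exists_mx_ge (hY : Gd p r D Y) (hx : x ∈ Y) (hE : IsPGroup r E) (hn : E ≤ normalizer Y) :
    ∃ R, Mx r x R ∧ Y ⊆ Yr D x R ∧ E ≤ R := by
  obtain ⟨R, hR, hle⟩ := exists_mx (hY.pg_sup hE hn) (hY.nx_sup hx hn)
  exact ⟨R, hR, sub_Yr hY.toCl hx (le_sup_left.trans hle), le_sup_right.trans hle⟩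

/-- An `r`-group normalizing a good set normalizes a plane over it. -/
theorem exists_pl (hY : Gd p r D Y) (hx : x ∈ Y) (hE : IsPGroup r E) (hn : E ≤ normalizer Y) :
    ∃ X, Pl p r D X ∧ Y ⊆ X ∧ E ≤ normalizer X := by
  obtain ⟨R, hR, h1, h2⟩ := h.exists_mx_ge hY hx hE hn
  exact ⟨_, h.pl_Yr (hY.sub hx) hR, h1, h2.trans (h.nz_Yr hR.nx)⟩

theorem exists_pl' (hY : Gd p r D Y) (hx : x ∈ Y) : ∃ X, Pl p r D X ∧ Y ⊆ X := by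
  obtain ⟨X, h1, h2, -⟩ := h.exists_pl hY hx IsPGroup.of_bot bot_le
  exact ⟨X, h1, h2⟩

theorem pair_pl (hy : y ∈ D) (hz : z ∈ D) : ∃ X, Pl p r D X ∧ y ∈ X ∧ z ∈ X := by
  obtain ⟨Y, hY, h1, h2⟩ := h.pair_gd hy hz
  obtain ⟨X, hX, hs⟩ := h.exists_pl' hY h1
  exact ⟨X, hX, hs h1, hs h2⟩

theorem not_sub (hX : Gd p r D X) : ∃ y ∈ D, y ∉ X := by
  by_contra! H
  exact h.gd_ne hX (hX.sub.antisymm H)

end Mn

end Cfsg.Lib.FS
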