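import Cfsg.Agent.Lib.FS.Odd
import Cfsg.Agent.Lib.Inv.Constr
import Cfsg.Agent.S0221

/-!
# The case `r` odd: every involution fixes a plane, and the `2`-rank is at most two
-/

set_option autoImplicit false
set_option linter.unusedSectionVars false

namespace Cfsg.Lib.FS

open Subgroup Cfsg.Lib.BG
open scoped Cfsg.Lib.Transfer commutatorElement

variable {G : Type*} [Group G] [Finite G]
variable {p r : ℕ} {D X Y Z X' X₀ X₁ X₂ : Set G} {x y z g a b c k u w t s e e' t' : G} {S A U : Subgroup G}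

theorem mul_sq (a2 : a * a = 1) (b2 : b * b = 1) (hc : a * b = b * a) : a * b * (a * b) = 1 := by
  rw [mul_assoc, ← mul_assoc b, ← hc, mul_assoc, b2, mul_one, a2]

theorem two_grp (hS : IsPGroup 2 S) (hA : A ≤ S) (hA8 : Nat.card A = 8) (hAe : ∀ a ∈ A, a ^ 2 = 1) (he' : e' ∈ S)
    (e2 : e * e = 1) (e2' : e' * e' = 1) (hec : e ∈ 𝐂(S))
    (H : ∀ s ∈ S, s * s = 1 → s * e' = e' * s → s = 1 ∨ s = e ∨ s = e' ∨ s = e * e') :
    ∃ U : Subgroup G, IsKleinFour U ∧ U ≤ S ∧ S ≤ 𝐍(U) ∧ e ∈ U ∧ e' ∉ 𝐂(U) ∧ ∃ s ∈ S ⊓ 𝐂(U), s ∉ U ∧ s * s = 1 := by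
  have hAe' := PGroup.elemAb_two_iff.2 hAe
  obtain ⟨U, hUS, hSU, hU⟩ := Agent.S0221.exists_normal_four hS hA hAe' hA8
  obtain ⟨s, hs, hsU⟩ : ∃ s ∈ A ⊓ 𝐂(U), s ∉ U := by
    by_contra! hle
    have h1 := Inv.k4_card_le_two_mul hU (pgroup_of_le hS hA) (hA.trans hSU)
    have h2 : A ⊓ 𝐂(U) = U := eq_of_le_of_card_le hle (by rw [hU.card_four]; omega)
    have h3 : A ≤ U := by rw [← h2]; exact le_inf le_rfl (abelian_cent' hAe'.1 le_rfl (h2 ▸ inf_le_left))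
    have := Subgroup.card_le_of_le h3
    rw [hU.card_four] at this; omega
  have s2 : s * s = 1 := by rw [← pow_two, hAe s hs.1]
  have hc := mem_cent.1 hec e' he'
  have h1 : e' ∉ 𝐂(U) := fun h => by
    obtain ⟨x, hx, y, hy, x1, y1, xy⟩ := Inv.k4_exists hU
    have hxy := U.mul_mem hx hy
    have f1 : e * (e * e') = e' := by rw [← mul_assoc, e2, one_mul]
    have f2 : e * e' * e' = e := by rw [mul_assoc, e2', mul_one]
    have : e ∈ U ∧ e' ∈ U := by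
      rcases H x (hUS hx) (Inv.k4_mul_self hU hx) (mem_cent.1 h x hx) with rfl | rfl | rfl | rfl <;>
      rcases H y (hUS hy) (Inv.k4_mul_self hU hy) (mem_cent.1 h y hy) with rfl | rfl | rfl | rfl <;>
      first
        | contradiction
        | exact ⟨hx, hy⟩
        | exact ⟨hy, hx⟩
        | exact ⟨hx, f1 ▸ hxy⟩
        | exact ⟨hy, f1 ▸ U.mul_mem hy hx⟩
        | exact ⟨f2 ▸ hxy, hy⟩
        | exact ⟨f2 ▸ U.mul_mem hy hx, hx⟩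
    rcases H s (hA hs.1) s2 (mem_cent.1 hs.2 e' this.2).symm with rfl | rfl | rfl | rfl
    exacts [hsU U.one_mem, hsU this.1, hsU this.2, hsU (U.mul_mem this.1 this.2)]
  obtain ⟨z, hz, z1⟩ := exists_ne_one (nil_meet_center (pgroup_nil hS) hUS hSU (fun h => by
    have := hU.card_four; rw [h, card_bot] at this; omega))
  refine ⟨U, hU, hUS, hSU, ?_, h1, s, ⟨hA hs.1, hs.2⟩, hsU, s2⟩
  rcases H z (hUS hz.1) (Inv.k4_mul_self hU hz.1) (mem_cent.1 hz.2 e' he').symm with rfl | rfl | rfl | rfl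
  · exact absurd rfl z1
  · exact hz.1
  · exact absurd (cent_anti hUS hz.2) h1
  · exact absurd (cent_anti hUS ((Subgroup.mul_mem_cancel_left _ hec).1 hz.2)) h1

theorem two_grp_end (hS : IsPGroup 2 S) (he' : e' ∈ S) (e1 : e ≠ 1) (e2' : e' * e' = 1) (hec : e ∈ 𝐂(S))
    (H : ∀ s ∈ S, s * e' = e' * s → s = 1 ∨ s = e ∨ s = e' ∨ s = e * e') (hU : IsKleinFour U) (hUS : U ≤ S)
    (hSU : S ≤ 𝐍(U)) (he : e ∈ U) (h1 : e' ∉ 𝐂(U)) (hs : s ∈ S ⊓ 𝐂(U)) (hsU : s ∉ U) : False := by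
  have hz : zpowers e' ≤ S := zpowers_le.2 he'
  have hm : ∀ g ∈ U ⊔ zpowers e', g ∈ U ∨ ∃ v ∈ U, g = v * e' := fun g hg => by
    obtain ⟨v, hv, _, ⟨i, rfl⟩, rfl⟩ := (mem_sup_left_norm (hz.trans hSU)).1 hg
    rcases Int.even_or_odd' i with ⟨j, rfl | rfl⟩
    · left; simpa [zpow_mul, pow_two, e2'] using hv
    · exact Or.inr ⟨v, hv, by simp [zpow_add, zpow_mul, pow_two, e2']⟩
  have hE : ∀ s ∈ S, s * e' = e' * s → s ∈ U ⊔ zpowers e' := fun s hs hc => by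
    rcases H s hs hc with rfl | rfl | rfl | rfl
    exacts [one_mem _, mem_sup_left he, mem_sup_right (mem_zpowers _),
      mul_mem (mem_sup_left he) (mem_sup_right (mem_zpowers _))]
  have hUc := Inv.k4_le_centralizer hU
  have heq : U ⊔ zpowers e' = S := by
    by_contra hne
    obtain ⟨n, ⟨hn, hnn⟩, hnH⟩ := SetLike.exists_of_lt
      (nil_norm_grow (pgroup_nil hS) (lt_of_le_of_ne (sup_le hUS hz) hne))
    rcases hm _ (conj_mem_of_norm hnn (mem_sup_right (mem_zpowers e'))) with h | ⟨v, hv, h⟩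
    · exact h1 (hUc (by simpa [mul_assoc] using conj_mem_of_norm' (hSU hn) h))
    have hv2 : v * e' = e' * v := by
      have : v * e' * (v * e') = 1 := by
        rw [← h, show n * e' * n⁻¹ * (n * e' * n⁻¹) = n * (e' * e') * n⁻¹ by group, e2']; group
      rw [← inv_of_sq this, mul_inv_rev, inv_of_sq e2', inv_of_sq (Inv.k4_mul_self hU hv)]
    rcases H v (hUS hv) hv2 with rfl | rfl | rfl | rfl
    · exact hnH (hE n hn (mul_inv_eq_iff_eq_mul.1 (by rw [h, one_mul])))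
    · obtain ⟨u, hu, hue⟩ : ∃ u ∈ U, u * e' ≠ e' * u := by
        by_contra! hc; exact h1 (mem_cent.2 hc)
      have u1 : u ≠ 1 := by rintro rfl; simp at hue
      have uv : v ≠ u := by rintro rfl; exact hue hv2
      have f : e' * u * e'⁻¹ = v * u := Inv.k4_eq_mul hU hv hu (conj_mem_of_norm (hSU he') hu) e1 u1 uv
        (by simpa using u1) (fun f => uv (by
          rw [mul_inv_eq_iff_eq_mul, hv2] at f; exact (mul_left_cancel f).symm))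
        fun f => hue (mul_inv_eq_iff_eq_mul.1 f).symm
      refine hnH ((Subgroup.mul_mem_cancel_left _ (mem_sup_left hu)).1 (hE _ (S.mul_mem (hUS hu) hn) ?_))
      rw [← mul_inv_eq_iff_eq_mul]
      calc u * n * e' * (u * n)⁻¹ = u * v * (e' * u * e'⁻¹) * (e' * u⁻¹ * u⁻¹ * e'⁻¹) * e' := by
            rw [mul_assoc u, mul_inv_rev, ← mul_assoc, mul_assoc u, h]; group
        _ = u * (v * v) * u⁻¹ * (u * u) * (e' * (u * u)⁻¹ * e'⁻¹) * e' := by rw [f]; group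
        _ = e' := by rw [Inv.k4_mul_self hU hv, Inv.k4_mul_self hU hu]; group
    · exact h1 (hUc hv)
    · exact h1 ((Subgroup.mul_mem_cancel_left _ (hUc he)).1 (hUc hv))
  rcases hm s (heq ▸ hs.1) with h | ⟨v, hv, rfl⟩
  · exact hsU h
  · exact h1 ((Subgroup.mul_mem_cancel_left _ (hUc hv)).1 hs.2)

namespace Mn

variable (h : Mn p r D) (hr : r ≠ 2)
include h hr

theorem fix_iff (t1 : t ≠ 1) (t2 : t * t = 1) (hX : Pl p r D X) (ht : t ∈ normalizer X) (h0 : Pl p r D X₀)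
    (s0 : D ∩ 𝐂[t] ⊆ X₀) (hne : X ≠ X₀) (hy : y ∈ X) : y * t = t * y ↔ y ∈ X₀ :=
  ⟨fun e => s0 ⟨hX.sub hy, mem_cent1.2 e⟩, h.sec_inter hr t1 t2 hX ht h0 s0 hne hy⟩

omit hr in
theorem main_of_cz (hX : Pl p r D X) (s1 : s ≠ 1) (hs : s ∈ centralizer X) : D ∩ 𝐂[s] = X :=
  (hX.eq_of_sub (h.gd_cent s1) fun y hy => ⟨hX.sub hy, mem_cent1.2 (mem_cz.1 hs y hy)⟩).symm

theorem mixed (t1 : t ≠ 1) (t2 : t * t = 1) (s1 : t' ≠ 1) (s2 : t' * t' = 1) (hc : t * t' = t' * t) (u1 : t * t' ≠ 1)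
    (hX : Pl p r D X) (hX' : Pl p r D X') (m1 : D ∩ 𝐂[t] ⊆ X) (m2 : D ∩ 𝐂[t'] ⊆ X') (m3 : D ∩ 𝐂[t * t'] ⊆ X) :
    X = X' := by
  by_contra hne
  have u2 := mul_sq t2 s2 hc
  have n1 := h.nz_main hr s1 s2 hX' m2 hc
  have n2 := h.nz_of_fix hr s2 hX'.toGd m2
  have c1 := hX'.same_act hr n1 (mul_mem n1 n2) t2 u2 (by rw [mul_assoc, hc]) fun y hy =>
    (h.fix_iff hr t1 t2 hX' n1 hX m1 (Ne.symm hne) hy).trans
      (h.fix_iff hr u1 u2 hX' (mul_mem n1 n2) hX m3 (Ne.symm hne) hy).symm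
  rw [← mul_assoc, t2, one_mul] at c1
  obtain ⟨c, ec⟩ := h.conj_pl' hX hX'
  obtain ⟨s, hs, a1, a2, hsc⟩ := exists_inv_comm (M := centralizer X) (E := zpowers t ⊔ zpowers t')
    (pgroup_sup (pg_inv t2) (pg_inv s2) (zpowers_le.2 (cent_le_norm _ (by rw [cent_zpowers]; exact mem_cent1.2 hc.symm))))
    (sup_le (zpowers_le.2 (nz_le_nC (h.nz_of_fix hr t2 hX.toGd m1)))
      (zpowers_le.2 (nz_le_nC (h.nz_main hr t1 t2 hX m1 hc.symm))))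
    (by rw [← ec, cz_cj, Transfer.card_conj]; exact two_dvd_card c1 s1 s2)
  have d1 := mem_cent.1 hsc t (mem_sup_left (mem_zpowers t))
  have d2 := mem_cent.1 hsc t' (mem_sup_right (mem_zpowers t'))
  have n3 := h.nz_main hr s1 s2 hX' m2 d2.symm
  have c2 := hX'.same_act hr n1 n3 t2 a2 d1 fun y hy =>
    (h.fix_iff hr t1 t2 hX' n1 hX m1 (Ne.symm hne) hy).trans
      (h.fix_iff hr a1 a2 hX' n3 hX (h.main_of_cz hX a1 hs).le (Ne.symm hne) hy).symm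
  by_cases e : t * s = 1
  · refine hne (h.main_uniq hr u1 u2 hX hX' m3 fun y hy => m2 ⟨hy.1, ?_⟩)
    have : y ∈ 𝐂[s] := mem_cent1.2 (mem_cz.1 hs y (m3 hy))
    have e3 : Commute y (s * (t * t')) := Commute.mul_right (mem_cent1.1 this) (mem_cent1.1 hy.2)
    rw [← mul_assoc, ← d1, e, one_mul] at e3
    exact mem_cent1.2 e3
  · refine hne (h.main_uniq hr t1 t2 hX hX' m1 fun y hy => h.main_of_cz hX' e c2 ▸ ⟨hy.1, mem_cent1.2 ?_⟩)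
    exact Commute.mul_right (mem_cent1.1 hy.2) (mem_cz.1 hs y (m1 hy))

theorem exc_cent (t1 : t ≠ 1) (t2 : t * t = 1) (s1 : t' ≠ 1) (s2 : t' * t' = 1) (hc : t * t' = t' * t)
    (hX : Pl p r D X) (hX' : Pl p r D X') (m1 : D ∩ 𝐂[t] ⊆ X) (m2 : D ∩ 𝐂[t'] ⊆ X') (hne : X ≠ X') :
    t ∈ centralizer X := by
  have u1 : t * t' ≠ 1 := fun e => hne (h.main_uniq hr t1 t2 hX hX' m1 (by
    rwa [eq_inv_of_mul_eq_one_left e, inv_of_sq s2]))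
  have u2 := mul_sq t2 s2 hc
  obtain ⟨Z, hZ, m3⟩ := h.exists_main hr u1 u2
  have hne2 : Z ≠ X := fun e => hne (h.mixed hr t1 t2 s1 s2 hc u1 hX hX' m1 m2 (e ▸ m3))
  have n1 := h.nz_of_fix hr t2 hX.toGd m1
  have n2 := h.nz_main hr t1 t2 hX m1 hc.symm
  have := hX.same_act hr (mul_mem n1 n2) n2 u2 s2 (by rw [← mul_assoc, hc]) fun y hy => ⟨fun e => ?_, fun e => ?_⟩
  · rwa [mul_assoc, s2, mul_one] at this
  · have e3 : Commute y (t * (t * t')) := Commute.mul_right (h.sec_inter hr t1 t2 hZ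
      (h.nz_main hr u1 u2 hZ m3 (by rw [mul_assoc, hc])) hX m1 hne2 (m3 ⟨hX.sub hy, mem_cent1.2 e⟩) hy) e
    rwa [← mul_assoc, t2, one_mul] at e3
  · exact Commute.mul_right (h.sec_inter hr t1 t2 hX' (h.nz_main hr s1 s2 hX' m2 hc) hX m1 (Ne.symm hne)
      (m2 ⟨hX.sub hy, mem_cent1.2 e⟩) hy) e

theorem cent_main (t1 : t ≠ 1) (t2 : t * t = 1) (hX : Pl p r D X) (m : D ∩ 𝐂[t] ⊆ X) : t ∈ centralizer X ∧
    ∃ e e' : G, e ≠ 1 ∧ e * e = 1 ∧ e' ≠ 1 ∧ e' * e' = 1 ∧ e * e' = e' * e ∧ D ∩ 𝐂[e] ≠ D ∩ 𝐂[e'] := by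
  obtain ⟨y, hy, hyX⟩ := h.not_sub hX.toGd
  obtain ⟨Y, hY, hyY, hn⟩ := h.inv_gd t2 hy
  obtain ⟨X', hX', hs, hn'⟩ := h.exists_inv_pl hr t2 hY hyY hn
  obtain ⟨c, ec⟩ := h.conj_pl' hX hX'
  have hsq : ∀ g : G, g * t * g⁻¹ * (g * t * g⁻¹) = 1 := fun g => by
    rw [show g * t * g⁻¹ * (g * t * g⁻¹) = g * (t * t) * g⁻¹ by group, t2]; group
  obtain ⟨S, hS, l1⟩ := Syl.exists_ge (pg_inv t2) (zpowers_le.2 (h.nz_of_fix hr t2 hX.toGd m))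
  obtain ⟨g, hg, l2⟩ := hS.exists_conj_le (pg_inv (hsq c))
    (zpowers_le.2 (by rw [← ec, nz_cj]; exact Transfer.conj_mem_conj.2 hn'))
  have m2 : g * c * t * (g * c)⁻¹ ∈ S := by
    simpa [mul_assoc] using l2 (Transfer.conj_mem_conj.2 (mem_zpowers _))
  have m3 : D ∩ 𝐂[g * c * t * (g * c)⁻¹] ⊆ cj (g * c) X := fun y hy =>
    m ⟨h.conj' hy.1 _, Transfer.mem_conj.1 (by rw [conj_cent1]; exact hy.2)⟩
  have hne : cj (g * c) X ≠ X := fun e => by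
    have : cj (g * c) X' = X := by rw [← cj_cj, ec, cj_eq_iff.2 hg]
    have := congrArg (cj (g * c)⁻¹) (e.trans this.symm)
    rw [cj_inv_cj, cj_inv_cj] at this
    exact hyX (this ▸ hs hyY)
  obtain ⟨z, hz, z1, z2, hzc⟩ := exists_inv_comm hS.pgroup (le_norm S) (two_dvd_card (l1 (mem_zpowers t)) t1 t2)
  obtain ⟨Z, hZ, mz⟩ := h.exists_main hr z1 z2
  by_cases e : X = Z
  · have t1' : g * c * t * (g * c)⁻¹ ≠ 1 := fun e => t1 (conj_eq_one_iff.1 e)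
    have hc := mem_cent.1 hzc _ m2
    have := h.exc_cent hr t1' (hsq _) z1 z2 hc (hX.cj' _) hZ m3 mz (e ▸ hne)
    rw [cz_cj, Transfer.conj_mem_conj] at this
    exact ⟨this, _, z, t1', hsq _, z1, z2, hc, fun e' => hne (h.main_uniq hr z1 z2 (hX.cj' _) hX (e' ▸ m3) (e ▸ mz))⟩
  · have hc := mem_cent.1 hzc _ (l1 (mem_zpowers t))
    exact ⟨h.exc_cent hr t1 t2 z1 z2 hc hX hZ m mz e, t, z, t1, t2, z1, z2, hc,
      fun e' => e (h.main_uniq hr z1 z2 hX hZ (e' ▸ m) mz)⟩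

theorem F_pl (t1 : t ≠ 1) (t2 : t * t = 1) : Pl p r D (D ∩ 𝐂[t]) := by
  obtain ⟨X, hX, m⟩ := h.exists_main hr t1 t2
  rwa [h.main_of_cz hX t1 (h.cent_main hr t1 t2 hX m).1]

theorem cz_or (t1 : t ≠ 1) (t2 : t * t = 1) (s1 : t' ≠ 1) (s2 : t' * t' = 1) (hc : t * t' = t' * t)
    (hne : D ∩ 𝐂[t] ≠ D ∩ 𝐂[t']) (a1 : s ≠ 1) (a2 : s * s = 1) (a3 : s * t' ≠ 1) (c1 : s * t = t * s)
    (c2 : s * t' = t' * s) : D ∩ 𝐂[s] = D ∩ 𝐂[t] ∨ D ∩ 𝐂[s * t'] = D ∩ 𝐂[t] := by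
  have hX := h.F_pl hr t1 t2
  by_contra! H
  have key : ∀ a, a ≠ 1 → a * a = 1 → a * t = t * a → D ∩ 𝐂[a] ≠ D ∩ 𝐂[t] → ∀ w ∈ Ws (D ∩ 𝐂[t]), a * w * a⁻¹ = w⁻¹ :=
    fun a b1 b2 b3 b4 w hw => h.sec_inv hr b1 b2 hX (h.nz_main hr t1 t2 hX subset_rfl b3)
      (fun hs => b4 ((h.F_pl hr b1 b2).eq_of_sub hX.toGd hs)) hw
  obtain ⟨w, hw, w1⟩ := exists_ne_one hX.ne
  have f1 := key _ a3 (mul_sq a2 s2 c2) (by rw [mul_assoc, ← hc, ← mul_assoc, c1, mul_assoc]) H.2 w hw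
  rw [show s * t' * w * (s * t')⁻¹ = s * (t' * w * t'⁻¹) * s⁻¹ by group, key t' s1 s2 hc.symm hne.symm w hw,
    key s a1 a2 c1 H.1 _ (inv_mem hw), inv_inv, eq_inv_iff_mul_eq_one] at f1
  exact w1 (hX.odd_sq hr hw.1 f1)

theorem exc_rank (t1 : t ≠ 1) (t2 : t * t = 1) (s1 : t' ≠ 1) (s2 : t' * t' = 1) (hc : t * t' = t' * t)
    (hne : D ∩ 𝐂[t] ≠ D ∩ 𝐂[t']) (a2 : s * s = 1) (c1 : s * t = t * s) (c2 : s * t' = t' * s) :
    s = 1 ∨ s = t ∨ s = t' ∨ s = t * t' := by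
  have key : ∀ s, s ≠ 1 → s * t ≠ 1 → s * s = 1 → s * t = t * s → s * t' = t' * s → D ∩ 𝐂[s] ≠ D ∩ 𝐂[t] :=
    fun s a1 a3 a2 c1 c2 e => by
      rcases h.cz_or hr s1 s2 t1 t2 hc.symm hne.symm a1 a2 a3 c2 c1 with f | f
      · exact hne (e.symm.trans f)
      · refine hne ((h.F_pl hr t1 t2).eq_of_sub (h.F_pl hr s1 s2).toGd fun y hy => f ▸ ⟨hy.1, mem_cent1.2 ?_⟩)
        exact Commute.mul_right (mem_cent1.1 (e.symm ▸ hy : y ∈ D ∩ 𝐂[s]).2) (mem_cent1.1 hy.2)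
  by_contra! H
  have b1 : s * t' ≠ 1 := fun e => H.2.2.1 (by rw [eq_inv_of_mul_eq_one_left e, inv_of_sq s2])
  rcases h.cz_or hr t1 t2 s1 s2 hc hne H.1 a2 b1 c1 c2 with f | f
  · exact key s H.1 (fun e => H.2.1 (by rw [eq_inv_of_mul_eq_one_left e, inv_of_sq t2])) a2 c1 c2 f
  · refine key _ b1 (fun e => H.2.2.2 ?_) (mul_sq a2 s2 c2) (by rw [mul_assoc, ← hc, ← mul_assoc, c1, mul_assoc])
      (by rw [← mul_assoc t', ← c2]) f
    rw [mul_assoc, ← hc] at e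
    rw [eq_inv_of_mul_eq_one_left e, inv_of_sq (mul_sq t2 s2 hc)]

theorem exc_syl (hA8 : Nat.card A = 8) (hAe : ∀ a ∈ A, a ^ 2 = 1) (e1 : e ≠ 1) (e2 : e * e = 1) (e1' : e' ≠ 1)
    (e2' : e' * e' = 1) (hc : e * e' = e' * e) (hne : D ∩ 𝐂[e] ≠ D ∩ 𝐂[e']) {S₁ : Subgroup G}
    (h1 : Syl 2 S₁ (𝐂[e] ⊓ 𝐂[e'])) : ∃ S : Subgroup G, IsPGroup 2 S ∧ S₁ ≤ S ∧ e' ∈ S ∧ e ∈ 𝐂(S) ∧
      ∃ U : Subgroup G, IsKleinFour U ∧ U ≤ S ∧ S ≤ 𝐍(U) ∧ e ∈ U ∧ e' ∉ 𝐂(U) ∧ ∃ s ∈ S ⊓ 𝐂(U), s ∉ U ∧ s * s = 1 := by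
  have hX := h.F_pl hr e1 e2
  have hm : ∀ a, a * a = 1 → a * e = e * a → a * e' = e' * a → a ∈ 𝐂(𝐂[e] ⊓ 𝐂[e']) → a ∈ S₁ := fun a a2 c1 c2 c3 =>
    h1.ge_of_norm_p' (zpowers_le.2 ⟨mem_cent1.2 c1, mem_cent1.2 c2⟩) (pg_inv a2)
      (zpowers_le.2 (cent_le_norm _ (cent_anti h1.le c3))) (mem_zpowers a)
  have he := hm e e2 rfl hc (mem_cent.2 fun g hg => mem_cent1.1 hg.1)
  have he' := hm e' e2' hc.symm rfl (mem_cent.2 fun g hg => mem_cent1.1 hg.2)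
  obtain ⟨S, hS, l1⟩ := Syl.exists_ge h1.pgroup fun g hg => h.nz_main hr e1 e2 hX subset_rfl (mem_cent1.1 (h1.le hg).1)
  have hAp : IsPGroup 2 A := fun a => ⟨1, Subtype.ext (by simpa using hAe a a.2)⟩
  obtain ⟨P, hP, l2⟩ := Syl.exists_ge hAp le_top
  obtain ⟨z, hz, z1, z2, hzc⟩ := exists_inv_comm hP.pgroup (le_norm P) ((by rw [hA8]; norm_num : 2 ∣ Nat.card A).trans
    (card_dvd l2))
  obtain ⟨c, ec⟩ := h.conj_pl' hX (h.F_pl hr z1 z2)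
  obtain ⟨g, -, l3⟩ := hS.exists_conj_le ((pgroup_conj c).2 hAp) (by
    rw [← ec, nz_cj]
    exact Transfer.conj_mono c fun a ha => h.nz_main hr z1 z2 (h.F_pl hr z1 z2) subset_rfl (mem_cent.1 hzc a (l2 ha)))
  have hec : e ∈ 𝐂(S) := by
    obtain ⟨z, hz, z1, z2, hzc⟩ := exists_inv_comm (M := S ⊓ centralizer (D ∩ 𝐂[e])) hS.pgroup
      (norm_inf (le_norm S) (hS.le.trans nz_le_nC))
      (two_dvd_card ⟨l1 he, mem_cz.2 fun y hy => mem_cent1.1 hy.2⟩ e1 e2)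
    have f := h.main_of_cz hX z1 hz.2
    rcases h.exc_rank hr e1 e2 e1' e2' hc hne z2 (mem_cent.1 hzc e (l1 he)).symm (mem_cent.1 hzc e' (l1 he')).symm
      with rfl | rfl | rfl | rfl
    · exact absurd rfl z1
    · exact hzc
    · exact absurd f.symm hne
    · refine absurd (hX.eq_of_sub (h.F_pl hr e1' e2').toGd fun y hy => ⟨hy.1, mem_cent1.2 ?_⟩) hne
      have : Commute y (e * (e * e')) := Commute.mul_right (mem_cent1.1 hy.2) (mem_cz.1 hz.2 y hy)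
      rwa [← mul_assoc, e2, one_mul] at this
  refine ⟨S, hS.pgroup, l1, l1 he', hec, two_grp hS.pgroup l3 (by rw [Transfer.card_conj, Transfer.card_conj, hA8])
    (fun a ha => ?_) (l1 he') e2 e2' hec fun s hs s2 c2 =>
      h.exc_rank hr e1 e2 e1' e2' hc hne s2 (mem_cent.1 hec s hs) c2⟩
  rw [Transfer.conj_conj, Transfer.mem_conj] at ha
  have := hAe _ ha
  rw [show (g * c)⁻¹ * a * (g * c) = (g * c)⁻¹ * a * (g * c)⁻¹⁻¹ by rw [inv_inv], conj_pow] at this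
  exact conj_eq_one_iff.1 this

theorem rank2 (t1 : t ≠ 1) (t2 : t * t = 1) (hA8 : Nat.card A = 8) (hAe : ∀ a ∈ A, a ^ 2 = 1) : False := by
  obtain ⟨-, e, e', e1, e2, e1', e2', hc, hne⟩ := h.cent_main hr t1 t2 (h.F_pl hr t1 t2) subset_rfl
  obtain ⟨S₁, h1⟩ := Syl.exists 2 (𝐂[e] ⊓ 𝐂[e'])
  obtain ⟨S, hS, l1, he', hec, U, hU, hUS, hSU, he, hn, s, hs, hsU, -⟩ :=
    h.exc_syl hr hA8 hAe e1 e2 e1' e2' hc hne h1
  obtain ⟨S', -, l1', -, hec', U', hU', -, hSU', he2, hn', -⟩ :=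
    h.exc_syl hr hA8 hAe e1' e2' e1 e2 hc.symm hne.symm (inf_comm 𝐂[e] 𝐂[e'] ▸ h1)
  refine two_grp_end hS he' e1 e2' hec (fun s hs c2 => ?_) hU hUS hSU he hn hs hsU
  have c1 := mem_cent.1 hec s hs
  refine h.exc_rank hr e1 e2 e1' e2' hc hne ?_ c1 c2
  have hs1 : s ∈ S₁ := by
    rw [h1.eq_of_le_pgroup (le_inf l1 (h1.le.trans inf_le_right)) (fun g hg => ⟨mem_cent1.2 (mem_cent.1 hec g hg.1),
      hg.2⟩) (pgroup_of_le hS inf_le_left)]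
    exact ⟨hs, mem_cent1.2 c2⟩
  by_contra s2
  obtain ⟨a, ha, a1, a2⟩ := exists_inv_of_pg (pgroup_of_le hS (zpowers_le.2 (S.mul_mem hs hs)))
    (ne_bot_of_mem (mem_zpowers _) s2)
  have f1 := zpowers_le.2 (Inv.k4_sq_mem_centralizer hU (hSU hs) he e1 (mul_inv_eq_iff_eq_mul.2 c1)) ha
  have f2 := zpowers_le.2 (Inv.k4_sq_mem_centralizer hU' (hSU' (l1' hs1)) he2 e1' (mul_inv_eq_iff_eq_mul.2 c2)) ha
  rcases h.exc_rank hr e1 e2 e1' e2' hc hne a2 (mem_cent.1 f1 e he).symm (mem_cent.1 f2 e' he2).symm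
    with rfl | rfl | rfl | rfl
  · exact a1 rfl
  · exact hn' f2
  · exact hn f1
  · exact hn ((Subgroup.mul_mem_cancel_left _ (Inv.k4_le_centralizer hU he)).1 f1)

end Mn

end Cfsg.Lib.FS
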