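import Cfsg.Agent.Lib.FS.Basic

/-!
# Reduction to a minimal counterexample
-/

set_option autoImplicit false
set_option linter.unusedSectionVars false

namespace Cfsg.Lib.FS

open Subgroup Cfsg.Lib.BG
open scoped Cfsg.Lib.Transfer commutatorElement

universe u

variable {G : Type*} [Group G] {G' : Type*} [Group G']

/-- A minimal counterexample. -/
structure Mn (p r : ℕ) (D : Set G) : Prop extends Hy p r D where
  good : ∀ Y, Cl D Y → Y ≠ D → IsPGroup r (Qs Y)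
  bad : ¬ IsPGroup r (Qs D)
  gen : closure D = ⊤
  cen : ∀ g ∈ centralizer D, g = 1
  nr : ∀ R : Subgroup G, R.Normal → IsPGroup r R → R = ⊥

variable {p r : ℕ} {D X Y Z : Set G} {x y z g : G}

theorem Qs_image (f : G →* G') (Y : Set G) : Qs (f '' Y) = (Qs Y).map f := by
  rw [Qs, Qs, MonoidHom.map_closure]
  congr 1
  ext g
  constructor
  · rintro ⟨_, ⟨a, ha, rfl⟩, _, ⟨b, hb, rfl⟩, rfl⟩
    exact ⟨_, ⟨a, ha, b, hb, rfl⟩, by simp⟩
  · rintro ⟨_, ⟨a, ha, b, hb, rfl⟩, rfl⟩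
    exact ⟨_, ⟨a, ha, rfl⟩, _, ⟨b, hb, rfl⟩, by simp⟩

theorem Cl.closure_nz [Finite G] (h : Cl D Y) : closure Y ≤ normalizer Y :=
  (closure_le _).2 fun _ hy => h.nz hy

theorem Hy.sub [Finite G] (h : Hy p r D) (hY : Cl D Y) :
    Hy p r ((closure Y).subtype ⁻¹' Y : Set (closure Y)) := by
  set H := closure Y
  have hinj : Function.Injective H.subtype := Subtype.val_injective
  have hcl : ∀ Y' : Set H, Cl (H.subtype ⁻¹' Y) Y' → Cl D (H.subtype '' Y') := fun Y' h' =>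
    ⟨by rintro _ ⟨a, ha, rfl⟩; exact hY.sub (h'.sub ha), by
      rintro _ ⟨a, ha, rfl⟩ _ ⟨b, hb, rfl⟩; exact ⟨_, h'.cl a ha b hb, by simp⟩⟩
  have hcz : ∀ (Y' : Set H) (c : H), (c : G) ∈ centralizer (H.subtype '' Y') → c ∈ centralizer Y' :=
    fun Y' c hc => mem_cz.2 fun y hy => Subtype.ext (mem_cz.1 hc _ ⟨y, hy, rfl⟩)
  refine ⟨⟨h.pp, h.p2, h.rp, h.ne, fun y hy g => nz_conj (Y := Y) (hY.closure_nz g.2) hy, fun y hy z hz => ?_,
    fun y hy => by rw [← h.ord _ (hY.sub hy)]; exact (Subgroup.orderOf_coe y).symm, fun y hy z hz => ?_⟩,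
    fun Y' h' hp a ha b hb => ?_, fun hr Y' h' hp a ha => ?_⟩
  · obtain ⟨R, hR, hn, hm⟩ := h.pair _ (hY.sub hy) _ (hY.sub hz)
    obtain ⟨g, hg, e⟩ := h.exists_conj (R := R ⊓ H) (pgroup_of_le hR inf_le_left) (hY.sub hy) (hY.sub hz)
      (norm_inf (zpowers_le.2 hn) (zpowers_le.2 (le_norm H y.2)) (mem_zpowers _))
      ⟨hm, H.mul_mem (H.inv_mem y.2) z.2⟩
    exact isConj_iff.2 ⟨⟨g, hg.2⟩, Subtype.ext e⟩
  · obtain ⟨R, hR, hn, hm⟩ := h.pair _ (hY.sub hy) _ (hY.sub hz)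
    refine ⟨R.comap H.subtype, hR.comap_of_injective _ hinj, ?_, hm⟩
    exact mem_nz fun k hk => conj_mem_of_norm (H := R) hn hk
  · refine hcz Y' _ (h.cl2 _ (hcl Y' h') (by rw [Qs_image]; exact hp.map _) a ?_ b ?_) <;>
      (rw [Qs_image]; exact mem_map_of_mem _ ‹_›)
  · refine hcz Y' _ (h.sq hr _ (hcl Y' h') (by rw [Qs_image]; exact hp.map _) a ?_)
    rw [Qs_image]; exact mem_map_of_mem _ ha

theorem Hy0.pg_of_nil [Finite G] (h : Hy0 p r D) (hY : Y ⊆ D) {P : Subgroup G} (hP : Group.IsNilpotent P)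
    (hle : Qs Y ≤ P) : IsPGroup r (Qs Y) := by
  haveI := Fact.mk h.rp
  obtain ⟨S, hS⟩ := Syl.exists r P
  refine pgroup_of_le hS.pgroup (Qs_le fun a ha b hb => ?_)
  obtain ⟨R, hR, -, hm⟩ := h.pair _ (hY ha) _ (hY hb)
  exact hS.mem_of_normal (hS.nml_of_nil hP).2 (hle (mem_Qs ha hb)) ((PiGrp.p_iff.2 hR).elt hm)

theorem Hy0.lift [Finite G] (h : Hy0 p r D) (f : G →* G')
    (hk : ∀ P : Subgroup G', IsPGroup r P → Group.IsNilpotent (P.comap f)) (hY : Y ⊆ D)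
    (hp : IsPGroup r (Qs (f '' Y))) : IsPGroup r (Qs Y) :=
  h.pg_of_nil hY (hk _ hp) (by rw [Qs_image]; exact le_comap_map _ _)

theorem Hy.quot [Finite G] (h : Hy p r D) (f : G →* G') (hf : Function.Surjective f)
    (hk : ∀ P : Subgroup G', IsPGroup r P → Group.IsNilpotent (P.comap f)) (h1 : ∀ y ∈ D, f y ≠ 1) :
    Hy p r (f '' D) := by
  haveI := Fact.mk h.pp
  have key : ∀ Y', Cl (f '' D) Y' → IsPGroup r (Qs Y') →
      Cl D (D ∩ f ⁻¹' Y') ∧ f '' (D ∩ f ⁻¹' Y') = Y' ∧ IsPGroup r (Qs (D ∩ f ⁻¹' Y')) := by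
    intro Y' h' hp
    have e : f '' (D ∩ f ⁻¹' Y') = Y' := by
      rw [Set.image_inter_preimage]; exact Set.inter_eq_right.2 h'.sub
    refine ⟨⟨Set.inter_subset_left, fun a ha b hb => ⟨h.conj b hb.1 a, ?_⟩⟩, e,
      h.lift f hk Set.inter_subset_left (by rwa [e])⟩
    simpa using h'.cl _ ha.2 _ hb.2
  have hcz : ∀ (Y : Set G) (c : G), c ∈ centralizer Y → f c ∈ centralizer (f '' Y) := fun Y c hc =>
    mem_cz.2 (by rintro _ ⟨y, hy, rfl⟩; rw [← map_mul, mem_cz.1 hc y hy, map_mul])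
  refine ⟨⟨h.pp, h.p2, h.rp, h.ne, ?_, ?_, ?_, ?_⟩, fun Y' h' hp a ha b hb => ?_, fun hr Y' h' hp a ha => ?_⟩
  · rintro _ ⟨y, hy, rfl⟩ g
    obtain ⟨g, rfl⟩ := hf g
    exact ⟨_, h.conj y hy g, by simp⟩
  · rintro _ ⟨y, hy, rfl⟩ _ ⟨z, hz, rfl⟩
    exact f.map_isConj (h.trans y hy z hz)
  · rintro _ ⟨y, hy, rfl⟩
    exact orderOf_eq_prime (by rw [← map_pow, h.pow_p hy, map_one]) (h1 y hy)
  · rintro _ ⟨y, hy, rfl⟩ _ ⟨z, hz, rfl⟩
    obtain ⟨R, hR, hn, hm⟩ := h.pair y hy z hz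
    exact ⟨R.map f, hR.map f, map_norm f (zpowers_le.2 hn) (mem_map_of_mem f (mem_zpowers y)),
      by simpa using mem_map_of_mem f hm⟩
  · obtain ⟨h1, h2, h3⟩ := key Y' h' hp
    rw [← h2, Qs_image] at ha hb
    obtain ⟨a, ha, rfl⟩ := ha
    obtain ⟨b, hb, rfl⟩ := hb
    simpa [h2] using hcz _ _ (h.cl2 _ h1 h3 a ha b hb)
  · obtain ⟨h1, h2, h3⟩ := key Y' h' hp
    rw [← h2, Qs_image] at ha
    obtain ⟨a, ha, rfl⟩ := ha
    simpa [h2] using hcz _ _ (h.sq hr _ h1 h3 a ha)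

theorem Qs_subsingleton (h : Y.Subsingleton) : Qs Y = ⊥ :=
  eq_bot_iff.2 (Qs_le fun a ha b hb => by rw [h ha hb]; simp)

theorem AT_of_noMn (H : ∀ (G : Type u) [Group G] [Finite G] (D : Set G), ¬ Mn p r D) :
    ∀ (n : ℕ) (G : Type u) [Group G] [Finite G] (D : Set G), Nat.card G = n → Hy p r D → IsPGroup r (Qs D) := by
  intro n
  induction n using Nat.strong_induction_on with
  | _ n ih =>
  intro G _ _ D hn h
  haveI := Fact.mk h.rp
  by_contra hbad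
  have hsub : ∀ Y, Cl D Y → closure Y ≠ ⊤ → IsPGroup r (Qs Y) := fun Y hY hne => by
    have := ih _ (hn ▸ Finite.card_subtype_lt (x := (SetLike.exists_of_lt (lt_top_iff_ne_top.2 hne)).choose)
      (SetLike.exists_of_lt (lt_top_iff_ne_top.2 hne)).choose_spec.2) _ _ rfl (h.sub hY)
    have h2 := this.map (closure Y).subtype
    rwa [← Qs_image, Set.image_preimage_eq_of_subset (fun y hy => ⟨⟨y, subset_closure hy⟩, rfl⟩)] at h2
  have hgen : closure D = ⊤ := by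
    by_contra hne; exact hbad (hsub D h.cl_D hne)
  have hq : ∀ (N : Subgroup G) (_ : N.Normal), (∀ y ∈ D, y ∉ N) →
      (∀ P : Subgroup (G ⧸ N), IsPGroup r P → Group.IsNilpotent (P.comap (QuotientGroup.mk' N))) → N = ⊥ := by
    intro N hN h1 hk
    by_contra hne
    have hlt : Nat.card (G ⧸ N) < n := by
      rw [← hn, N.card_eq_card_quotient_mul_card_subgroup]
      exact lt_mul_of_one_lt_right Nat.card_pos (N.one_lt_card_iff_ne_bot.2 hne)
    exact hbad (h.lift _ hk subset_rfl (ih _ hlt _ _ rfl (h.quot _ (QuotientGroup.mk'_surjective N) hk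
      fun y hy e => h1 y hy ((QuotientGroup.eq_one_iff y).1 e))))
  refine H G D ⟨h, fun Y hY hne => ?_, hbad, hgen, fun g hg => ?_, fun R hR hp => hq R hR (fun y hy hm => ?_)
    fun P hP => pgroup_nil (hP.comap_of_ker_isPGroup _ (by rwa [QuotientGroup.ker_mk']))⟩
  · by_cases ht : closure Y = ⊤
    · rcases Y.eq_empty_or_nonempty with rfl | ⟨y, hy⟩
      · rw [Qs_subsingleton Set.subsingleton_empty]; exact IsPGroup.of_bot
      · refine absurd (Set.Subset.antisymm hY.sub fun z hz => ?_) hne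
        obtain ⟨k, rfl⟩ := isConj_iff.1 (h.trans y (hY.sub hy) z hz)
        exact nz_conj (hY.closure_nz (ht ▸ mem_top k)) hy
    · exact hsub Y hY ht
  · have hc : g ∈ center G := mem_center_iff.2 fun k => mem_cent1.1
      ((show closure D ≤ 𝐂[g] from (closure_le _).2 fun y hy => mem_cent1.2 (mem_cz.1 hg y hy)) (hgen ▸ mem_top k))
    have := hq (center G) inferInstance (fun y hy hm => hbad ?_) fun P hP => ?_
    · rwa [this, mem_bot] at hc
    · rw [Qs_subsingleton fun a ha b hb => ?_]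
      · exact IsPGroup.of_bot
      · obtain ⟨k, rfl⟩ := isConj_iff.1 (h.trans y hy a ha)
        obtain ⟨l, rfl⟩ := isConj_iff.1 (h.trans y hy b hb)
        rw [mem_center_iff.1 hm k, mem_center_iff.1 hm l]; group
    · haveI := pgroup_nil hP
      refine Subgroup.isNilpotent_of_ker_le_center (((QuotientGroup.mk' (center G)).subgroupComap P)) fun a ha => ?_
      have : (a : G) ∈ center G := (QuotientGroup.eq_one_iff _).1 (congrArg Subtype.val ha)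
      exact mem_center_iff.2 fun b => Subtype.ext (mem_center_iff.1 this b)
  · have := disjoint_of_coprime (h.cop hy hp)
    exact h.ne_one hy (mem_bot.1 (this ▸ (⟨mem_zpowers y, hm⟩ : y ∈ zpowers y ⊓ R)))

namespace Mn

variable [Finite G] (h : Mn p r D)
include h

theorem gd (hY : Cl D Y) (hne : Y ≠ D) : Gd p r D Y := ⟨hY, h.toHy, h.good Y hY hne⟩

theorem gd_ne (hY : Gd p r D Y) : Y ≠ D := fun e => h.bad (e ▸ hY.pg)

theorem gd_norm {R : Subgroup G} (hR : IsPGroup r R) (h1 : R ≠ ⊥) : Gd p r D (D ∩ 𝐍(R)) :=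
  h.gd (h.cl_sub _) fun e => h1 (h.nr R (normalizer_eq_top_iff.1 (eq_top_iff.2 (h.gen ▸ (closure_le _).2
    fun y hy => (e.symm ▸ hy : y ∈ D ∩ 𝐍(R)).2))) hR)

theorem gd_cent {u : G} (h1 : u ≠ 1) : Gd p r D (D ∩ 𝐂[u]) :=
  h.gd (h.cl_sub _) fun e => h1 (h.cen u (mem_cz.2 fun y hy => mem_cent1.1 (e.symm ▸ hy : y ∈ D ∩ 𝐂[u]).2))

theorem gd_one (hx : x ∈ D) : Gd p r D {x} :=
  ⟨h.cl_one hx, h.toHy, by rw [Qs_subsingleton Set.subsingleton_singleton]; exact IsPGroup.of_bot⟩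

theorem nonempty : D.Nonempty := by
  by_contra e
  exact h.bad (by rw [Qs_subsingleton (Set.not_nonempty_iff_eq_empty.1 e ▸ Set.subsingleton_empty)]
                  exact IsPGroup.of_bot)

theorem central (hg : ∀ y ∈ D, y * g = g * y) : g = 1 := h.cen g (mem_cz.2 hg)

/-- An `r`-subgroup normal in a normal subgroup is trivial. -/
theorem nr2 {N R : Subgroup G} (hN : N.Normal) (hR : IsPGroup r R) (hle : R ≤ N) (hn : N ≤ 𝐍(R)) : R = ⊥ := by
  haveI := Fact.mk h.rp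
  have h1 : 𝐎({r}, N) = ⊥ := h.nr _ (normalizer_eq_top_iff.1 (eq_top_iff.2 (norm_pcore
    (by rw [normalizer_eq_top_iff.2 hN]) {r}))) (pcore_pi {r} N).pgroup
  exact eq_bot_mono h1 (pcore_max_p hR ⟨hle, hn⟩)

/-- A nontrivial normal subgroup is transitive on `D`. -/
theorem normal_tr {N : Subgroup G} (hN : N.Normal) (h1 : N ≠ ⊥) (hx : x ∈ D) (hz : z ∈ D) :
    ∃ n ∈ N, n * x * n⁻¹ = z := by
  let Y : Set G := {y | ∃ n ∈ N, n * x * n⁻¹ = y}
  have hY : Cl D Y := ⟨by rintro _ ⟨n, -, rfl⟩; exact h.conj x hx n, by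
    rintro _ ⟨n, hn, rfl⟩ _ ⟨m, hm, rfl⟩
    exact ⟨n * (x * (n⁻¹ * m) * x⁻¹), N.mul_mem hn (hN.conj_mem _ (N.mul_mem (N.inv_mem hn) hm) x), by group⟩⟩
  by_cases e : Y = D
  · exact (e.symm ▸ hz : z ∈ Y)
  exfalso
  have hNY : N ≤ normalizer Y := fun m hm => mem_nz (by
    rintro _ ⟨n, hn, rfl⟩; exact ⟨m * n, N.mul_mem hm hn, by group⟩)
  have hQ := h.nr2 hN (h.good Y hY e) (Qs_le' x (by
    rintro _ ⟨n, hn, rfl⟩
    have := N.mul_mem (hN.conj_mem _ hn x⁻¹) (N.inv_mem hn)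
    rwa [show x⁻¹ * n * x⁻¹⁻¹ * n⁻¹ = x⁻¹ * (n * x * n⁻¹) by group] at this)) (hNY.trans nz_le_nQ)
  have hc : ∀ n ∈ N, x * n = n * x := fun n hn => by
    have : x⁻¹ * (n * x * n⁻¹) ∈ Qs Y := mem_Qs ⟨1, N.one_mem, by simp⟩ ⟨n, hn, rfl⟩
    rw [hQ, mem_bot, inv_mul_eq_one] at this
    calc x * n = n * x * n⁻¹ * n := by rw [← this]
      _ = _ := by group
  refine h1 (eq_bot_iff.2 fun n hn => mem_bot.2 (h.central fun y hy => ?_))
  obtain ⟨k, rfl⟩ := isConj_iff.1 (h.trans x hx y hy)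
  have := hc _ (hN.conj_mem _ hn k⁻¹)
  calc k * x * k⁻¹ * n = k * (x * (k⁻¹ * n * k⁻¹⁻¹)) * k⁻¹ := by group
    _ = _ := by rw [this]; group

theorem Q_le_normal {N : Subgroup G} (hN : N.Normal) (h1 : N ≠ ⊥) : Qs D ≤ N := Qs_le fun a ha b hb => by
  obtain ⟨n, hn, rfl⟩ := h.normal_tr hN h1 ha hb
  have := N.mul_mem (hN.conj_mem _ hn a⁻¹) (N.inv_mem hn)
  rwa [show a⁻¹ * n * a⁻¹⁻¹ * n⁻¹ = a⁻¹ * (n * a * n⁻¹) by group] at this

end Mn

end Cfsg.Lib.FS
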