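import Cfsg.Agent.Lib.FS.Claim

/-!
# The case `r = 2`, first part
-/

set_option autoImplicit false
set_option linter.unusedSectionVars false

namespace Cfsg.Lib.FS

open Subgroup Cfsg.Lib.BG
open scoped Cfsg.Lib.Transfer commutatorElement

variable {G : Type*} [Group G] [Finite G]
variable {p r : ℕ} {D X Y Z X' X₁ X₂ : Set G} {x y z g a b c k u w t : G} {R S E M : Subgroup G}

theorem inv_of_sq (h : a * a = 1) : a⁻¹ = a := inv_eq_of_mul_eq_one_right h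

theorem pg_inv (h : a * a = 1) : IsPGroup 2 (zpowers a) := by
  rintro ⟨_, n, rfl⟩
  refine ⟨1, Subtype.ext ?_⟩
  change (a ^ n) ^ 2 ^ 1 = 1
  rw [pow_one, ← zpow_natCast, ← zpow_mul, mul_comm, zpow_mul, zpow_natCast, pow_two, h, one_zpow]

theorem dihedral {H : Subgroup G} (hu : u ∈ H) (ha : a ∈ H) (u2 : u * u = 1) (a2 : a * a = 1) :
    (∃ c ∈ H, c * a * c⁻¹ = u) ∨ ∃ z ∈ H, z ≠ 1 ∧ z * u = u * z ∧ z * a = a * z ∧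
      ∃ c ∈ H, c * a * c⁻¹ = a * z ∨ c * a * c⁻¹ = u * z := by
  have hs := H.mul_mem hu ha
  set s := u * a with hsd
  have e0 : a * s * a⁻¹ = s⁻¹ := by rw [hsd, mul_inv_rev, inv_of_sq u2, inv_of_sq a2, mul_assoc, mul_assoc, a2, mul_one]
  have e1 : ∀ m : ℕ, (s ^ m)⁻¹ * a = a * s ^ m := fun m => by
    rw [← inv_pow, ← e0, conj_pow]; group
  have e2 : ∀ m : ℕ, (s ^ m)⁻¹ * a * (s ^ m)⁻¹⁻¹ = a * s ^ (2 * m) := fun m => by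
    rw [e1, inv_inv, two_mul, pow_add, mul_assoc]
  have e3 : ∀ m : ℕ, a * s ^ (2 * m) = u * s ^ (2 * m + 1) := fun m => by
    rw [pow_succ', hsd, ← mul_assoc, ← mul_assoc, u2, one_mul]
  rcases Nat.even_or_odd' (orderOf s) with ⟨k, hk | hk⟩
  · have hz : (s ^ k)⁻¹ = s ^ k := inv_of_sq (by rw [← pow_add, ← two_mul, ← hk, pow_orderOf_eq_one])
    have hza : s ^ k * a = a * s ^ k := by rw [← e1, hz]
    have hpos := orderOf_pos s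
    refine Or.inr ⟨s ^ k, H.pow_mem hs k, pow_ne_one_of_lt_orderOf (by omega) (by omega), ?_, hza, ?_⟩
    · simpa [hsd] using ((Commute.pow_self s k).mul_right (Commute.inv_right hza)).eq
    · rcases Nat.even_or_odd' k with ⟨m, rfl | rfl⟩
      · exact ⟨_, H.inv_mem (H.pow_mem hs m), Or.inl (e2 m)⟩
      · exact ⟨_, H.inv_mem (H.pow_mem hs m), Or.inr ((e2 m).trans (e3 m))⟩
  · exact Or.inl ⟨_, H.inv_mem (H.pow_mem hs k), by rw [e2, e3, ← hk, pow_orderOf_eq_one, mul_one]⟩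

theorem exists_fix_mod {K B : Subgroup G} (hu : u ∈ 𝐍(K)) (hs : ∀ a ∈ K, a * a ∈ B)
    (h2 : ∀ a ∈ K, ⁅u * u, a⁆ ∈ B) (hne : ¬ K ≤ B) : ∃ k ∈ K, k ∉ B ∧ ⁅u, k⁆ ∈ B := by
  obtain ⟨k, hk, hkB⟩ := SetLike.not_le_iff_exists.1 hne
  by_cases h : ⁅u, k⁆ ∈ B
  · exact ⟨k, hk, hkB, h⟩
  have hv := conj_mem_of_norm hu hk
  refine ⟨_, K.mul_mem hv (K.inv_mem hk), h, ?_⟩
  have := B.mul_mem (h2 k hk) (hs _ (K.mul_mem hk (K.inv_mem hv)))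
  convert this using 1
  simp only [cm_def]; group

theorem Hy.inv_gd (h : Hy p r D) (ht : t * t = 1) (hz : z ∈ D) : ∃ Y, Gd p r D Y ∧ z ∈ Y ∧ t ∈ normalizer Y := by
  obtain ⟨Z, hZ, h1, h2⟩ := h.pair_gd hz (h.conj z hz t)
  refine ⟨Z ∩ cj t Z, hZ.inter' (hZ.cj' t).toCl, ⟨h1, by rw [inv_of_sq ht] at h2; rwa [mem_cj, inv_of_sq ht]⟩,
    cj_eq_iff.1 (Set.ext fun y => ?_)⟩
  have : t⁻¹ * (t⁻¹ * y * t) * t = y := by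
    rw [inv_of_sq ht]
    calc t * (t * y * t) * t = (t * t) * y * (t * t) := by group
      _ = y := by rw [ht]; group
  simp only [mem_cj, Set.mem_inter_iff, this, and_comm]

namespace Gd

variable (h : Gd p r D Y)
include h

theorem L3_fix (hx : x ∈ Y) (hg : g ∈ Qs Y) (hux : u * x = x * u) (hf : u * (g * x * g⁻¹) = g * x * g⁻¹ * u) :
    ∃ l ∈ Qs Y, u * l = l * u ∧ ∃ w ∈ Ws Y, g = ⁅l, x⁆ * w := by
  have hF := h.inter' (h.hy.cl_cent u)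
  have h1 : x ∈ Y ∩ (D ∩ 𝐂[u]) := ⟨hx, h.sub hx, mem_cent1.2 hux.symm⟩
  obtain ⟨k, hk, e⟩ := hF.tr h1 ⟨h.act hg hx, h.sub (h.act hg hx), mem_cent1.2 hf.symm⟩
  obtain ⟨w, hw, rfl⟩ := h.eqv (Qs_mono Set.inter_subset_left hk) hg hx e
  obtain ⟨l, hl, w', hw', rfl⟩ := hF.L3 h1 hk
  exact ⟨l, Qs_mono Set.inter_subset_left hl, (mem_cent1.1 (Qs_le_of_subset (fun _ hy => hy.2.2) hl)).symm,
    w' * w, mul_mem (h.W_mono Set.inter_subset_left h1 hw') hw, mul_assoc _ _ _⟩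

theorem fix_of_comm (hx : x ∈ Y) (hg : g ∈ Qs Y) (hux : u * x = x * u) (hc : c ∈ Qs Y) (hm : ⁅g * u, c⁆ ∈ Ws Y) :
    u * (c * x * c⁻¹) = c * x * c⁻¹ * u := by
  have hw : g⁻¹ * ⁅g * u, c⁆ * g * ⁅g⁻¹, c⁆ ∈ Ws Y :=
    mul_mem (by simpa using W_conj (inv_mem (h.Q_nz hg)) hm) (h.cm (inv_mem hg) hc)
  rw [← mul_inv_eq_iff_eq_mul]
  refine Eq.trans ?_ (h.W_act hw (h.act hc hx))
  calc u * (c * x * c⁻¹) * u⁻¹ = u * c * u⁻¹ * (u * x * u⁻¹) * u * c⁻¹ * u⁻¹ := by group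
    _ = _ := by rw [hux]; simp only [cm_def]; group

theorem dec (hr : r = 2) (hx : x ∈ Y) (hb : b ∈ normalizer Y) (b2 : b * b = 1) :
    ∃ g ∈ Qs Y, ∃ u ∈ normalizer Y, b = g * u ∧ u * x = x * u ∧ u * g = g * u ∧ g * g * (u * u) = 1 ∧
      ∃ l ∈ Qs Y, ⁅l, b⁆ = g * g ∧ u * l = l * u ∧ ∃ w ∈ Ws Y, g = ⁅l, x⁆ * w := by
  obtain ⟨g, hg, u, hu, hux, e⟩ := h.nz_dec hx hb
  have hf : u * (g * x * g⁻¹) = g * x * g⁻¹ * u := by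
    have e1 : u * (g * x * g⁻¹) * u⁻¹ = g⁻¹ * (g * u * (g * u)) * (u⁻¹ * x * u) * (g * u * (g * u))⁻¹ * g := by group
    rw [← e, b2, mul_assoc u⁻¹, ← hux] at e1
    have e2 := h.W_act (h.sq hr hg) (h.act' hg hx)
    rw [← mul_inv_eq_iff_eq_mul, e1]
    calc _ = g⁻¹ * x * g := by group
      _ = _ := by rw [← e2]; group
  obtain ⟨l, hl, hul, w, hw, rfl⟩ := h.L3_fix hx hg hux hf
  have c1 : w * u * l = l * (w * u) := by rw [mul_assoc, hul, ← mul_assoc, ← W_Q hw hl, mul_assoc]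
  have c2 : w * u * x = x * (w * u) := by rw [mul_assoc, hux, ← mul_assoc, ← W_pt hw hx, mul_assoc]
  have c3 : w * u * ⁅l, x⁆ = ⁅l, x⁆ * (w * u) :=
    (((Commute.mul_right c1 c2).mul_right (Commute.inv_right c1)).mul_right (Commute.inv_right c2)).eq
  refine ⟨_, h.cm_pt hx hl, w * u, mul_mem (W_le_nz hw) hu, by rw [e, mul_assoc], c2, c3, ?_, l, hl, ?_, c1,
    1, one_mem _, by simp⟩
  · rw [← b2, e, mul_assoc _ w u]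
    calc _ = ⁅l, x⁆ * (⁅l, x⁆ * (w * u)) * (w * u) := by group
      _ = ⁅l, x⁆ * (w * u * ⁅l, x⁆) * (w * u) := by rw [c3]
      _ = _ := by group
  · rw [h.sq_eq hr hx hl (one_mem _) (mul_one _).symm, e, mul_assoc _ w u]
    calc _ = l * ⁅l, x⁆ * (w * u * l⁻¹ * (w * u)⁻¹) * ⁅l, x⁆⁻¹ := by rw [cm_def l (_ * _)]; group
      _ = _ := by rw [(Commute.inv_right c1).eq, cm_def l ⁅l, x⁆]; group

/-- Elements of `[Q, t] W` that are fixed by `t` modulo `Z(Q)` have square `1`. -/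
theorem formF (hr : r = 2) (hx : x ∈ Y) (ht : t ∈ normalizer Y) (htW : t ∈ 𝐂(Ws Y)) (hk : k ∈ Qs Y)
    (hw : w ∈ Ws Y) (e : c = ⁅t, k⁆ * w) (hz : ∀ l ∈ Qs Y, ⁅l, t⁻¹ * c * t * c⁻¹⁆ = 1) : c * c = 1 := by
  obtain ⟨γ, hγ, υ, hυ, hυx, rfl⟩ := h.nz_dec hx ht
  have hυW : υ ∈ 𝐂(Ws Y) := (Subgroup.mul_mem_cancel_left _ (h.Q_cW hγ)).1 htW
  obtain ⟨l, hl, w', hw', rfl⟩ := h.L3 hx hk
  have hL := Q_conj hυ hl
  have hs := h.x_conj hx hl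
  have hk' := Q_conj hυ hk
  have hc : c ∈ Qs Y := by
    rw [e]; exact mul_mem (by simpa [cm_def] using mul_mem (Q_conj ht hk) (inv_mem hk)) hw.1
  have e1 : c = ⁅υ * l * υ⁻¹ * l⁻¹, x⁆ * (⁅υ * (x * l * x⁻¹) * υ⁻¹, (x * l * x⁻¹)⁻¹ * l⁆ * ⁅(x * l * x⁻¹)⁻¹, l⁆ *
      ⁅γ, υ * (⁅l, x⁆ * w') * υ⁻¹⁆ * w) := by
    have c1 := W_Q (h.cm hγ hk') (mul_mem hk' (inv_mem hk))
    have c2 : υ * w' * υ⁻¹ = w' := by rw [← mem_cent.1 hυW w' hw']; group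
    have c3 : x * υ * x⁻¹ = υ := by rw [← hυx]; group
    calc c = ⁅γ, υ * (⁅l, x⁆ * w') * υ⁻¹⁆ * (υ * (⁅l, x⁆ * w') * υ⁻¹ * (⁅l, x⁆ * w')⁻¹) * w := by
          rw [e]; simp only [cm_def]; group
      _ = υ * ⁅l, x⁆ * υ⁻¹ * (υ * w' * υ⁻¹) * (⁅l, x⁆ * w')⁻¹ * ⁅γ, υ * (⁅l, x⁆ * w') * υ⁻¹⁆ * w := by
          rw [← c1]; group
      _ = υ * l * υ⁻¹ * l⁻¹ * x * l * x⁻¹ * (x * υ * x⁻¹) * x * l⁻¹ * x⁻¹ * (x * υ * x⁻¹)⁻¹ *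
          (⁅υ * (x * l * x⁻¹) * υ⁻¹, (x * l * x⁻¹)⁻¹ * l⁆ * ⁅(x * l * x⁻¹)⁻¹, l⁆ *
          ⁅γ, υ * (⁅l, x⁆ * w') * υ⁻¹⁆ * w) := by
          rw [c2, c3]; generalize ⁅γ, υ * (⁅l, x⁆ * w') * υ⁻¹⁆ = q; simp only [cm_def]; group
      _ = _ := by generalize ⁅γ, υ * (⁅l, x⁆ * w') * υ⁻¹⁆ = q; simp only [cm_def]; group
  have hc' := Q_conj (inv_mem ht) hc
  have hl' := Q_conj (inv_mem (h.Q_nz hγ)) (Q_conj ht hl)
  rw [h.sq_eq hr hx (mul_mem hL (inv_mem hl)) (mul_mem (mul_mem (mul_mem (h.cm (Q_conj hυ hs)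
    (mul_mem (inv_mem hs) hl)) (h.cm (inv_mem hs) hl)) (h.cm hγ hk')) hw) e1, h.cm_mul_left hL (inv_mem hl) hc,
    h.cm_inv_left hl hc, ← h.cm_inv_right hc hl, show υ * l * υ⁻¹ = γ⁻¹ * (γ * υ * l * (γ * υ)⁻¹) * γ⁻¹⁻¹ by group,
    ← h.cm_act (h.Q_cW hγ) hl' hc, ← h.cm_act (inv_mem htW) (Q_conj (h.Q_nz hγ) hl') (Q_conj (h.Q_nz hγ) hc)]
  have e2 : γ * c * γ⁻¹ = c * ⁅c⁻¹, γ⁆ := by rw [cm_def]; group
  have c4 : (γ * υ)⁻¹ * (c * ⁅c⁻¹, γ⁆) * (γ * υ)⁻¹⁻¹ = (γ * υ)⁻¹ * c * (γ * υ)⁻¹⁻¹ * ⁅c⁻¹, γ⁆ := by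
    have := mem_cent.1 htW _ (h.cm (inv_mem hc) hγ)
    calc _ = (γ * υ)⁻¹ * c * (⁅c⁻¹, γ⁆ * (γ * υ)) := by group
      _ = _ := by rw [this]; group
  rw [e2, c4, show (γ * υ)⁻¹ * (γ * (γ⁻¹ * (γ * υ * l * (γ * υ)⁻¹) * γ⁻¹⁻¹) * γ⁻¹) * (γ * υ)⁻¹⁻¹ = l by group,
    h.cm_mul_W_right hc' (h.cm (inv_mem hc) hγ) hl, ← h.cm_mul_right hl hc' (inv_mem hc), inv_inv]
  exact hz l hl

end Gd

namespace Mn

variable (h : Mn p r D)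
include h

theorem latin (hx : x ∈ D) (hy : y ∈ D) (hz : z ∈ D) (e : x * z * x⁻¹ = y * z * y⁻¹) : x = y := by
  obtain ⟨X₁, h1, a1, b1⟩ := h.pair_gd hx hz
  obtain ⟨X₂, h2, a2, b2⟩ := h.pair_gd hy hz
  obtain ⟨v, hv, e'⟩ := (h1.inter' h2.toCl).latin_surj ⟨b1, b2⟩ ⟨h1.cl x a1 z b1, e ▸ h2.cl y a2 z b2⟩
  exact (h1.latin b1 hv.1 a1 e').symm.trans (h2.latin b2 hv.2 a2 (e'.trans e))

/-- An involution fixing a point of a plane that it normalizes lies in `W`. -/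
theorem inv_mem_W (hr : r = 2) (hX : Pl p r D X) (hx : x ∈ X) (hu : u ∈ normalizer X) (hux : u * x = x * u)
    (u2 : u * u = 1) : u ∈ Ws X := by
  by_contra huW
  have hu1 : u ≠ 1 := fun e => huW (e ▸ one_mem _)
  obtain ⟨k, hk, hkW, hc⟩ := exists_fix_mod (B := Ws X) (nz_le_nQ hu) (fun a ha => hX.sq hr ha)
    (fun a _ => by rw [u2]; simp) fun hle => hX.ne (eq_bot_mono (comm_eq_bot_iff.2 (le_cent_iff.2
      fun a ha b hb => W_Q (hle hb) ha)) (hX.W_le_der hx))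
  have hy : k * x * k⁻¹ ∈ D ∩ 𝐂[u] := ⟨hX.sub (hX.act hk hx),
    mem_cent1.2 (hX.fix_of_comm hx (one_mem _) hux hk (by simpa using hc)).symm⟩
  refine hkW (hX.QC hk hx (mul_inv_eq_iff_eq_mul.1 (h.block (hX.sub hx) fun X₁ h1 hx1 => ?_)))
  obtain ⟨a, ha, ha1⟩ := exists_ne_one h1.ne
  have hpl : ∀ c ∈ 𝐂[x], x ∈ cj c X₁ ∧ c * a * c⁻¹ ∈ Ws (cj c X₁) ∧ c * a * c⁻¹ ≠ 1 := fun c hc =>
    ⟨by rw [mem_cj, mul_assoc, ← mem_cent1.1 hc]; simpa using hx1,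
      by rw [Ws_cj]; exact Transfer.conj_mem_conj.2 ha, by simpa using ha1⟩
  rcases dihedral (H := 𝐂[x]) (mem_cent1.2 hux) (mem_cent1.2 (W_pt ha hx1).symm) u2 (h1.W_sq hr hx1 ha) with
    ⟨c, hc, e⟩ | ⟨z, hz, hz1, zu, za, c, hc, e | e⟩ <;> obtain ⟨a1, a2, a3⟩ := hpl c hc <;> rw [e] at a2 a3
  · exact absurd (h.claim (h1.cj' c) hX a1 hx a2 a3 hu ▸ a2) huW
  · rw [h.claim (h1.cj' c) h1 a1 hx1 a2 a3 (h.nz_of_comm h1 ha ha1 (by rw [mul_assoc, za]))] at a2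
    exact h.FX h1 hx1 hu1 hux.symm ((Subgroup.mul_mem_cancel_left _ ha).1 a2) hz1 zu hy
  · have := W_pt a2 (h.FX (h1.cj' c) a1 hu1 hux.symm a2 a3 (by rw [mul_assoc, zu]) hy)
    refine h.FX h1 hx1 hz1 (mem_cent1.1 hz).symm ha ha1 za.symm ⟨hy.1, mem_cent1.2 ?_⟩
    rw [← mul_assoc, mem_cent1.1 hy.2, mul_assoc u, mul_assoc u] at this
    exact mul_left_cancel this

theorem mem_Q_of_sq (hr : r = 2) (hX : Pl p r D X) (hx : x ∈ X) (hg : g ∈ Qs X) (hu : u ∈ normalizer X)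
    (hux : u * x = x * u) (e : g * g * (u * u) = 1) (g2 : g * g = 1) : g * u ∈ Qs X :=
  mul_mem hg (h.inv_mem_W hr hX hx hu hux (by rwa [g2, one_mul] at e)).1

theorem cm_B (hr : r = 2) (hX : Pl p r D X) (hX' : Pl p r D X') (hw : w ∈ Ws X') (ha : a ∈ Ws X ⊓ normalizer X') :
    ⁅w, a⁆ ∈ Ws X' ⊓ normalizer X := by
  obtain ⟨x, hx⟩ := hX.nonempty
  obtain ⟨x', hx'⟩ := hX'.nonempty
  have hv := W_conj ha.2 hw
  have e : ⁅w, a⁆ = w * (a * w * a⁻¹)⁻¹ := by rw [cm_def]; group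
  refine ⟨e ▸ (Ws X').mul_mem hw ((Ws X').inv_mem hv), ?_⟩
  by_cases ha1 : a = 1
  · rw [ha1]; simp
  refine h.nz_of_comm hX ha.1 ha1 (mul_inv_eq_iff_eq_mul.1 ?_).symm
  have a2 := hX.W_sq hr hx ha.1
  rw [e, inv_of_sq (hX'.W_sq hr hx' hv), W_Q hv hw.1]
  calc a * (a * w * a⁻¹ * w) * a⁻¹ = (a * a) * w * (a * a)⁻¹ * (a * w * a⁻¹) := by group
    _ = _ := by rw [a2, ← W_Q hv hw.1]; group

theorem cm_inj (hX : Pl p r D X) (hw : w ∉ normalizer X) (ha : a ∈ Ws X) (hb : b ∈ Ws X) (e : ⁅w, a⁆ = ⁅w, b⁆) :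
    a = b := by
  by_contra hne
  refine hw (h.nz_of_comm hX (mul_mem (inv_mem hb) ha) (fun e => hne (inv_mul_eq_one.1 e).symm) ?_)
  refine (Commute.inv_left_iff.1 (?_ : w⁻¹ * (b⁻¹ * a) = b⁻¹ * a * w⁻¹)).eq
  calc w⁻¹ * (b⁻¹ * a) = b⁻¹ * w⁻¹ * ⁅w, b⁆ * a := by rw [cm_def]; group
    _ = _ := by rw [← e, cm_def]; group

end Mn

end Cfsg.Lib.FS
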